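import Groth.Agent.L22.Reg.Cx
import Groth.Agent.L22.Reg.Chase
import Groth.Agent.L17.PushMV
import Groth.Agent.L17.CohSections
import Groth.Agent.L10.TopCoh
import Groth.Agent.L21.RR.Finite
import Groth.Agent.L29.DCoh.TensorAssoc

/-!
`Ext` out of an invertible module vanishes with the cohomology of the twist.
-/

set_option autoImplicit false
set_option backward.isDefEq.respectTransparency false
set_option linter.style.haveILetI false
universe u

open CategoryTheory CategoryTheory.Limits CategoryTheory.Abelian AlgebraicGeometry TopologicalSpace Opposite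

noncomputable section

namespace Groth.L22.PDual

open Groth.L00.Tensor (tensorMap tensorIso tensorAssoc tensorComm tensorUnitRight tensorRightF tensorMap_comp)
open Groth.L16.CohLinear (hmap hmap_comp hmap_id)

variable {X : Scheme.{u}}

/-- Two successive twists by inverse modules are the identity. -/
def invIso {L L' : X.Modules} (e : CohB1.tensorMod L L' ≅ Coh.structureModule X) :
    tensorRightF L ⋙ tensorRightF L' ≅ 𝟭 X.Modules :=
  NatIso.ofComponents (fun M => tensorAssoc M L L' ≪≫ tensorIso (Iso.refl M) e ≪≫ tensorUnitRight M)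
    fun {M N} f => by
      show tensorMap (tensorMap f (𝟙 L)) (𝟙 L') ≫ (tensorAssoc N L L').hom ≫ tensorMap (𝟙 N) e.hom ≫ _ =
        ((tensorAssoc M L L').hom ≫ tensorMap (𝟙 M) e.hom ≫ _) ≫ f
      rw [reassoc_of% Groth.L29.DC.Assoc.assoc_natural f (𝟙 L) (𝟙 L'), Groth.L00.Tensor.tensorMap_id,
        Category.assoc, Category.assoc, ← Groth.L22.Reg.tensorUnitRight_natural, ← Category.assoc (tensorMap f _),
        ← tensorMap_comp, Category.comp_id, Category.id_comp, ← Category.assoc (tensorMap (𝟙 M) _),
        ← tensorMap_comp, Category.id_comp, Category.comp_id]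

theorem isEquivalence_tensorRightF {L L' : X.Modules} (e : CohB1.tensorMod L L' ≅ Coh.structureModule X) :
    (tensorRightF L).IsEquivalence :=
  (CategoryTheory.Equivalence.mk (tensorRightF L) (tensorRightF L') (invIso e).symm
    (invIso (tensorComm L' L ≪≫ e))).isEquivalence_functor

/-- Injective modules are acyclic. -/
theorem subsingleton_HH_injective (I : X.Modules) [Injective I] (q : ℕ) :
    Subsingleton (Coh.HH X I (q + 1)) :=
  Groth.L10.TopCoh.subsingleton_H_of_flasque (X := X.toTopCat) (Coh.toAb I)
    (Groth.L17.PushMV.isFlasque_of_injective I) q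

theorem exists_lift_section {A B : X.Modules} (π : A ⟶ B) (h : Function.Surjective (hmap π 0))
    (g : Coh.structureModule X ⟶ B) : ∃ h : Coh.structureModule X ⟶ A, h ≫ π = g := by
  obtain ⟨a, ha⟩ := h ((Groth.L21.RR.e0 B).symm (g.app ⊤ (Groth.L21.RR.oneSec X)))
  obtain ⟨φ, hφ⟩ := Groth.L21.RR.exists_hom_of_hh0 a
  refine ⟨φ, Groth.L21.RR.hom_ext_one ?_⟩
  show π.app ⊤ (φ.app ⊤ (Groth.L21.RR.oneSec X)) = _
  rw [hφ, ← Groth.L21.RR.e0_hmap, ha, AddEquiv.apply_symm_apply]

theorem shortExact_cokernel_ι (M : X.Modules) :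
    (ShortComplex.mk (Injective.ι M) (cokernel.π (Injective.ι M)) (cokernel.condition _)).ShortExact :=
  { exact := ShortComplex.exact_cokernel _ }

variable [HasExt.{u} X.Modules]

/-- `Ext^i(L, M) = 0` if `H^i(M ⊗ L⁻¹) = 0`. -/
theorem subsingleton_ext_of_twist {L L' : X.Modules} (e : CohB1.tensorMod L L' ≅ Coh.structureModule X) :
    ∀ (i : ℕ) (M : X.Modules), Subsingleton (Coh.HH X (CohB1.tensorMod M L') (i + 1)) →
      Subsingleton (Ext L M (i + 1)) := by
  haveI := isEquivalence_tensorRightF (tensorComm L' L ≪≫ e)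
  have hinj : ∀ (I : X.Modules) [Injective I], Injective (CohB1.tensorMod I L') := fun I hI =>
    Adjunction.map_injective (tensorRightF L').asEquivalence.symm.toAdjunction I hI
  have hext : ∀ (M : X.Modules) (j : ℕ), Subsingleton (Ext L (Injective.under M) (j + 1)) := fun M j =>
    subsingleton_of_forall_eq 0 Ext.eq_zero_of_injective
  intro i
  induction i with
  | zero =>
    intro M hM
    let S := ShortComplex.mk (Injective.ι M) (cokernel.π (Injective.ι M)) (cokernel.condition _)
    have hS : S.ShortExact := shortExact_cokernel_ι M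
    have hT := hS.map_of_exact (tensorRightF L')
    refine subsingleton_of_forall_eq 0 fun x => ?_
    obtain ⟨y, rfl⟩ := Ext.covariant_sequence_exact₁ L hS x (@Subsingleton.elim _ (hext M 0) _ _) (n₀ := 0) rfl
    obtain ⟨g, rfl⟩ := (Ext.mk₀_bijective L S.X₃).2 y
    have hsurj : Function.Surjective (hmap ((tensorRightF L').map S.g) 0) := fun b =>
      (Groth.L16.CohLinear.exact_hmap_delta hT 0 b).1 (@Subsingleton.elim _ hM _ _)
    obtain ⟨h, hh⟩ := exists_lift_section _ hsurj (e.inv ≫ (tensorRightF L').map g)
    obtain ⟨g', hg'⟩ : ∃ g', (tensorRightF L').map g' = e.hom ≫ h := (tensorRightF L').map_surjective _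
    have hg : g' ≫ S.g = g := (tensorRightF L').map_injective (by
      rw [Functor.map_comp, hg', Category.assoc, hh, Iso.hom_inv_id_assoc])
    rw [← hg, ← Ext.mk₀_comp_mk₀, Ext.comp_assoc_of_second_deg_zero, hS.comp_extClass, Ext.comp_zero]
  | succ i ih =>
    intro M hM
    let S := ShortComplex.mk (Injective.ι M) (cokernel.π (Injective.ι M)) (cokernel.condition _)
    have hS : S.ShortExact := shortExact_cokernel_ι M
    have hT := hS.map_of_exact (tensorRightF L')
    haveI := ih S.X₃ (Groth.L22.Reg.subsingleton_of_exact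
      (Groth.L16.CohLinear.exact_hmap_delta hT (i + 1))
      (haveI := hinj (Injective.under M); subsingleton_HH_injective (CohB1.tensorMod (Injective.under M) L') i) hM (map_zero _))
    refine subsingleton_of_forall_eq 0 fun x => ?_
    obtain ⟨y, rfl⟩ := Ext.covariant_sequence_exact₁ L hS x (@Subsingleton.elim _ (hext M (i + 1)) _ _) (n₀ := i + 1) rfl
    rw [Subsingleton.elim y 0, Ext.zero_comp]

end Groth.L22.PDual
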