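import Groth.Agent.L22.PDual.TwistExt
import Groth.Agent.L17.Duality
import Groth.Agent.L12.DefoSh.Conn
import Groth.Agent.L16.CohLinear
import Groth.Prelude.Def_DCoh4
import Groth.Prelude.Def_KLin
import Mathlib.Algebra.Homology.DerivedCategory.Ext.Linear

/-!
`Ext^i(F, G) = H^i(Hom(F, G))`, linearly over the base, for finite locally free `F`.
-/

set_option autoImplicit false
set_option backward.isDefEq.respectTransparency false
set_option linter.style.haveILetI false
universe u

open CategoryTheory CategoryTheory.Limits CategoryTheory.Abelian AlgebraicGeometry TopologicalSpace Opposite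

noncomputable section

namespace Groth.L22.PDual

open Groth.L00.Tensor (tensorMap tensorIso tensorComm tensorUnitRight tensorRightF tensorLeftF tensorFlipIso)
open Groth.L16.CohLinear (hmap hmap_comp hmap_id overLin tm)

variable {X : Scheme.{u}}

/-- The two descriptions of `F ⊗ -`. -/
def biIso (F : X.Modules) :
    tensorLeftF F ≅ (DCoh.tensorBi (X := X)).obj F :=
  NatIso.ofComponents (fun N => Iso.refl _) (fun {N N'} g => by
    refine (Category.comp_id _).trans (Eq.trans ?_ (Category.id_comp _).symm)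
    refine congrArg (Groth.L00.Tensor.shf X).map ?_
    exact (congrArg (fun z => MonoidalCategory.tensorHom z ((Groth.L00.Tensor.preF X).map g))
      ((Groth.L00.Tensor.preF X).map_id F)).trans (MonoidalCategory.id_tensorHom _ _))

variable (F : X.Modules)

/-- `- ⊗ F ≅ F ⊗ -` in the frozen spelling. -/
def rightBiIso : tensorRightF F ≅ (DCoh.tensorBi (X := X)).obj F := tensorFlipIso F ≪≫ biIso F

variable [DCoh.HasSheafHom F]

/-- The sheaf of homomorphisms agrees with the one on the small site. -/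
def homIso [ModSite.HasSheafHom (O := X.sheaf) F] : DCoh.sheafHom F ≅ Groth.L17.ChangeRings.homMod F :=
  (DCoh.sheafHomAdj F).rightAdjointUniq ((ModSite.sheafHomAdj (O := X.sheaf) F).ofNatIsoLeft
    ((Groth.L17.ChangeRings.tensorRightBiIso F).symm ≪≫ rightBiIso F))

instance : (DCoh.sheafHom F).Additive := (DCoh.sheafHomAdj F).right_adjoint_additive

instance : PreservesFiniteLimits (DCoh.sheafHom F) :=
  haveI := (DCoh.sheafHomAdj F).rightAdjoint_preservesLimits
  inferInstance

theorem shortExact_sheafHom (hF : FlatMod.IsFinLocFree F) {S : ShortComplex X.Modules} (hS : S.ShortExact) :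
    (S.map (DCoh.sheafHom F)).ShortExact := by
  haveI := Groth.L17.Duality.hasSheafHom F
  haveI := Groth.L17.Duality.preservesFiniteColimits_homMod F hF
  haveI : PreservesFiniteColimits (DCoh.sheafHom F) :=
    preservesFiniteColimits_of_natIso (homIso F).symm
  exact hS.map_of_exact (DCoh.sheafHom F)

theorem injective_sheafHom (hF : FlatMod.IsFinLocFree F) (I : X.Modules) [Injective I] :
    Injective ((DCoh.sheafHom F).obj I) := by
  haveI := Groth.L17.Duality.hasSheafHom F
  exact Injective.of_iso ((homIso F).app I).symm (Groth.L17.Duality.injective_homMod F hF I)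

section Linear

variable {k : Type u} [Field k] [X.Over (Spec (CommRingCat.of k))]

omit [DCoh.HasSheafHom F] in
theorem tensor_smul_id (M : X.Modules) (c : k) :
    ((DCoh.tensorBi (X := X)).obj F).map (c • 𝟙 M) = c • 𝟙 (((DCoh.tensorBi (X := X)).obj F).obj M) := by
  have h : (tensorRightF F).map (c • 𝟙 M) = c • 𝟙 ((tensorRightF F).obj M) := by
    rw [KLin.smul_id, KLin.smul_id]
    exact (Groth.L12.DefoSh.tensorMap_eq _ _).symm.trans (Groth.L12.DefoSh.tf_smulModΓ (Ω := F) M (Coh.toGlobal (X ↘ Spec (CommRingCat.of k)) c))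
  have e := (rightBiIso F).hom.naturality (c • 𝟙 M)
  rw [h, Linear.smul_comp, Category.id_comp] at e
  rw [← cancel_epi ((rightBiIso F).hom.app M), ← e, Linear.comp_smul, Category.comp_id]

theorem sheafHom_map_smul {M N : X.Modules} (c : k) (f : M ⟶ N) :
    (DCoh.sheafHom F).map (c • f) = c • (DCoh.sheafHom F).map f := by
  have h : ∀ G, (DCoh.sheafHom F).map (c • 𝟙 G) = c • 𝟙 _ := fun G => by
    refine ((DCoh.sheafHomAdj F).homEquiv _ _).symm.injective ?_
    rw [Adjunction.homEquiv_counit, Adjunction.homEquiv_counit, tensor_smul_id, Linear.smul_comp,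
      Category.id_comp]
    refine ((DCoh.sheafHomAdj F).counit.naturality (c • 𝟙 G)).trans ?_
    show (DCoh.sheafHomAdj F).counit.app G ≫ (c • 𝟙 G) = c • (DCoh.sheafHomAdj F).counit.app G
    exact (Linear.comp_smul _ _ _ _ _ _).trans (congrArg (c • ·) (Category.comp_id _))
  rw [show c • f = f ≫ (c • 𝟙 N) from by rw [Linear.comp_smul, Category.comp_id], Functor.map_comp, h,
    Linear.comp_smul, Category.comp_id]

omit [DCoh.HasSheafHom F] in
theorem e0_smul (M : X.Modules) (c : k) (x : Coh.HH X M 0) :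
    Groth.L21.RR.e0 M (c • x) =
      (Coh.smulAb M (Coh.toGlobal (X ↘ Spec (CommRingCat.of k)) c)).hom.app (op ⊤) (Groth.L21.RR.e0 M x) :=
  (CategoryTheory.Sheaf.H.equiv₀_naturality _ (Coh.smulAb M (Coh.toGlobal (X ↘ Spec (CommRingCat.of k)) c)) x).symm

omit [DCoh.HasSheafHom F] in
theorem app_smul_one {M : X.Modules} (c : k) (φ : Coh.structureModule X ⟶ M) :
    (c • φ).app ⊤ (Groth.L21.RR.oneSec X) =
      (Coh.smulAb M (Coh.toGlobal (X ↘ Spec (CommRingCat.of k)) c)).hom.app (op ⊤)
        (φ.app ⊤ (Groth.L21.RR.oneSec X)) :=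
  (KLin.smul_app_apply c φ ⊤ (Groth.L21.RR.oneSec X)).trans (Coh.smulAb_app M _ (op ⊤) _).symm

/-- The section of a map out of the structure module. -/
def secHom (M : X.Modules) : (Coh.structureModule X ⟶ M) →+ Coh.HH X M 0 :=
  AddMonoidHom.mk' (fun φ => (Groth.L21.RR.e0 M).symm (φ.app ⊤ (Groth.L21.RR.oneSec X))) fun φ ψ => by
    rw [← map_add]
    rfl

theorem secHom_smul (M : X.Modules) (c : k) (φ : Coh.structureModule X ⟶ M) :
    secHom M (c • φ) = c • secHom M φ := by
  refine (Groth.L21.RR.e0 M).injective ?_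
  refine ((Groth.L21.RR.e0 M).apply_symm_apply _).trans ((app_smul_one c φ).trans ?_)
  refine Eq.trans ?_ (e0_smul M c _).symm
  exact congrArg _ ((Groth.L21.RR.e0 M).apply_symm_apply _).symm

/-- Global sections as degree zero cohomology, linearly. -/
def secLin (M : X.Modules) : (Coh.structureModule X ⟶ M) ≃ₗ[k] Coh.HH X M 0 :=
  LinearEquiv.ofBijective
    { toFun := secHom M
      map_add' := map_add _
      map_smul' := fun c φ => secHom_smul M c φ }
    ⟨fun φ ψ h => Groth.L21.RR.hom_ext_one ((Groth.L21.RR.e0 M).symm.injective h), fun x => by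
      obtain ⟨φ, hφ⟩ := Groth.L21.RR.exists_hom_of_hh0 x
      exact ⟨φ, (congrArg (Groth.L21.RR.e0 M).symm hφ).trans ((Groth.L21.RR.e0 M).symm_apply_apply x)⟩⟩

theorem secLin_apply {M : X.Modules} (φ : Coh.structureModule X ⟶ M) :
    secLin (k := k) M φ = (Groth.L21.RR.e0 M).symm (φ.app ⊤ (Groth.L21.RR.oneSec X)) := rfl

theorem secLin_comp {M N : X.Modules} (φ : Coh.structureModule X ⟶ M) (g : M ⟶ N) :
    secLin (k := k) N (φ ≫ g) = hmap g 0 (secLin (k := k) M φ) := by
  refine (Groth.L21.RR.e0 N).injective ?_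
  rw [Groth.L21.RR.e0_hmap, secLin_apply, secLin_apply, AddEquiv.apply_symm_apply, AddEquiv.apply_symm_apply]
  rfl

/-- `F ⊗ O ≅ F`. -/
def unitBi : ((DCoh.tensorBi (X := X)).obj F).obj (Coh.structureModule X) ≅ F :=
  ((biIso F).app _).symm ≪≫ tensorUnitRight F

/-- `Hom(F, G) ≅ H⁰(Hom(F, G))`. -/
def η (G : X.Modules) : (F ⟶ G) ≃ₗ[k] Coh.HH X ((DCoh.sheafHom F).obj G) 0 :=
  (Linear.homCongr k (unitBi F).symm (Iso.refl G)).trans
    (LinearEquiv.trans
      { ((DCoh.sheafHomAdj F).homEquiv (Coh.structureModule X) G) with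
        map_add' := fun a b => by
          rw [Equiv.toFun_as_coe, Adjunction.homEquiv_unit, Adjunction.homEquiv_unit, Adjunction.homEquiv_unit,
            Functor.map_add, Preadditive.comp_add]
        map_smul' := fun c a => by
          rw [Equiv.toFun_as_coe, Adjunction.homEquiv_unit, Adjunction.homEquiv_unit, sheafHom_map_smul,
            Linear.comp_smul]
          rfl }
      (secLin ((DCoh.sheafHom F).obj G)))

theorem η_comp {G G' : X.Modules} (φ : F ⟶ G) (g : G ⟶ G') :
    η (k := k) F G' (φ ≫ g) = hmap ((DCoh.sheafHom F).map g) 0 (η (k := k) F G φ) := by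
  show secLin (k := k) _ ((DCoh.sheafHomAdj F).homEquiv _ G' ((unitBi F).symm.inv ≫ (φ ≫ g) ≫ 𝟙 G')) =
    hmap _ 0 (secLin (k := k) _ ((DCoh.sheafHomAdj F).homEquiv _ G ((unitBi F).symm.inv ≫ φ ≫ 𝟙 G)))
  rw [Category.comp_id, Category.comp_id, ← Category.assoc, Adjunction.homEquiv_naturality_right, secLin_comp]

variable [HasExt.{u} X.Modules]

/-- `Ext^i(F, G) ≅ H^i(Hom(F, G))`. -/
theorem nonempty_ext_linearEquiv (hF : FlatMod.IsFinLocFree F) (i : ℕ) (G : X.Modules) :
    Nonempty (Ext F G i ≃ₗ[k] Coh.HH X ((DCoh.sheafHom F).obj G) i) := by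
  induction i generalizing G with
  | zero => exact ⟨Ext.linearEquiv₀.trans (η F G)⟩
  | succ i ih =>
    let S := ShortComplex.mk (Injective.ι G) (cokernel.π (Injective.ι G)) (cokernel.condition _)
    have hS : S.ShortExact := shortExact_cokernel_ι G
    have hT := shortExact_sheafHom F hF hS
    haveI := injective_sheafHom F hF (Injective.under G)
    have hext : ∀ j, Subsingleton (Ext F S.X₂ (j + 1)) := fun j =>
      subsingleton_of_forall_eq 0 Ext.eq_zero_of_injective
    have hH : ∀ j, Subsingleton (Coh.HH X ((DCoh.sheafHom F).obj S.X₂) (j + 1)) := fun j =>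
      subsingleton_HH_injective ((DCoh.sheafHom F).obj (Injective.under G)) j
    let ε := Ext.postcompOfLinear hS.extClass k F (show i + 1 = i + 1 from rfl)
    let δ := overLin k (Groth.L16.CohLinear.delta hT i)
    have εsurj : Function.Surjective ε := fun x =>
      Ext.covariant_sequence_exact₁ F hS x (@Subsingleton.elim _ (hext i) _ _) rfl
    have δsurj : Function.Surjective δ := fun x =>
      (Groth.L16.CohLinear.exact_delta_hmap hT i x).1 (@Subsingleton.elim _ (hH i) _ _)
    rcases i with _ | m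
    · let e : Ext F S.X₃ 0 ≃ₗ[k] Coh.HH X ((DCoh.sheafHom F).obj S.X₃) 0 := Ext.linearEquiv₀.trans (η F S.X₃)
      have he : ∀ φ : F ⟶ S.X₃, e (Ext.mk₀ φ) = η (k := k) F S.X₃ φ := fun φ => by
        show η (k := k) F S.X₃ (Ext.linearEquiv₀ (R := k) (Ext.mk₀ φ)) = _
        rw [← Ext.linearEquiv₀_symm_apply (R := k), LinearEquiv.apply_symm_apply]
      have hmapker : Submodule.map e.toLinearMap (LinearMap.ker ε) = LinearMap.ker δ := by
        ext x
        constructor
        · rintro ⟨y, hy, rfl⟩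
          obtain ⟨z, rfl⟩ := Ext.covariant_sequence_exact₃ F hS y rfl hy
          obtain ⟨φ, rfl⟩ := (Ext.mk₀_bijective F S.X₂).2 z
          show δ (e ((Ext.mk₀ φ).comp (Ext.mk₀ S.g) (zero_add 0))) = 0
          rw [Ext.mk₀_comp_mk₀, he, η_comp]
          exact (Groth.L16.CohLinear.exact_hmap_delta hT 0 _).2 ⟨_, rfl⟩
        · intro hx
          obtain ⟨y, rfl⟩ := (Groth.L16.CohLinear.exact_hmap_delta hT 0 x).1 hx
          obtain ⟨φ, rfl⟩ := (η (k := k) F S.X₂).surjective y
          refine ⟨(Ext.mk₀ φ).comp (Ext.mk₀ S.g) (zero_add 0), ?_, ?_⟩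
          · show ((Ext.mk₀ φ).comp (Ext.mk₀ S.g) (zero_add 0)).comp hS.extClass rfl = 0
            rw [Ext.comp_assoc_of_second_deg_zero, hS.comp_extClass, Ext.comp_zero]
          · show e ((Ext.mk₀ φ).comp (Ext.mk₀ S.g) (zero_add 0)) = _
            rw [Ext.mk₀_comp_mk₀, he, η_comp]
            rfl
      exact ⟨(LinearMap.quotKerEquivOfSurjective ε εsurj).symm.trans
        ((Submodule.Quotient.equiv _ _ e hmapker).trans (LinearMap.quotKerEquivOfSurjective δ δsurj))⟩
    · obtain ⟨e⟩ := ih S.X₃
      have εinj : Function.Injective ε := by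
        rw [injective_iff_map_eq_zero]
        intro y hy
        obtain ⟨z, rfl⟩ := Ext.covariant_sequence_exact₃ F hS y rfl hy
        rw [@Subsingleton.elim _ (hext m) z 0, Ext.zero_comp]
      have δinj : Function.Injective δ := by
        rw [injective_iff_map_eq_zero]
        intro y hy
        obtain ⟨z, rfl⟩ := (Groth.L16.CohLinear.exact_hmap_delta hT (m + 1) y).1 hy
        exact (congrArg _ (@Subsingleton.elim _ (hH m) z 0)).trans (map_zero _)
      exact ⟨(LinearEquiv.ofBijective ε ⟨εinj, εsurj⟩).symm.trans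
        (e.trans (LinearEquiv.ofBijective δ ⟨δinj, δsurj⟩))⟩

end Linear

end Groth.L22.PDual
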