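import Groth.Agent.L22.PDual.Perfect
import Groth.Agent.L22.PDual.TwistExt
import Groth.Prelude.Def_KLin
import Mathlib.Algebra.Homology.DerivedCategory.Ext.Linear

/-!
`Ext^i(F, ω)` is dual to `H^{n-i}(F)` on projective space.
-/

set_option autoImplicit false
set_option backward.isDefEq.respectTransparency false
set_option linter.style.haveILetI false
universe u

open CategoryTheory CategoryTheory.Limits CategoryTheory.Abelian AlgebraicGeometry TopologicalSpace Opposite

noncomputable section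

namespace Groth.L22.PDual

open Groth.L16
open Groth.L22.Reg (O')
open Groth.L16.CohLinear (hmap hmap_comp hmap_id overLin tm)

variable {k : Type u} [Field k] {n : ℕ}

theorem tm_smulMod (M : (CohB1.ProjSpace n k).Modules) (c : k) :
    tm (Formal.smulMod k M c) =
      Coh.smulAb M (Coh.toGlobal (CohB1.ProjSpace n k ↘ Spec (CommRingCat.of k)) c) := rfl

/-- The pairing, linearly. -/
def BL (F : (CohB1.ProjSpace n k).Modules) :
    (F ⟶ ω' n k) →ₗ[k] Module.Dual k (Coh.HH (CohB1.ProjSpace n k) F n) where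
  toFun := B F
  map_add' := map_add _
  map_smul' c φ := LinearMap.ext fun x => by
    rw [KLin.smul_def, B_comp]
    show B F φ (Sheaf.H.map (tm (Formal.smulMod k F c)) n x) = c • B F φ x
    rw [tm_smulMod, ← map_smul]
    rfl

/-- `Ext⁰(F, ω) ≅ H^n(F)^∨`. -/
def e0 {F : (CohB1.ProjSpace n k).Modules} [HasExt.{u} (CohB1.ProjSpace n k).Modules] (hF : Coh.IsCoh F) :
    Ext F (ω' n k) 0 ≃ₗ[k] Module.Dual k (Coh.HH (CohB1.ProjSpace n k) F n) :=
  Ext.linearEquiv₀.trans (LinearEquiv.ofBijective (BL F) (bijective_B hF))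

theorem e0_mk₀ {F : (CohB1.ProjSpace n k).Modules} [HasExt.{u} (CohB1.ProjSpace n k).Modules] (hF : Coh.IsCoh F)
    (φ : F ⟶ ω' n k) : e0 hF (Ext.mk₀ φ) = B F φ := by
  show BL F (Ext.linearEquiv₀ (R := k) (Ext.mk₀ φ)) = B F φ
  rw [← Ext.linearEquiv₀_symm_apply (R := k), LinearEquiv.apply_symm_apply]
  rfl

/-- The dimension of a cohomology group. -/
irreducible_def hd (F : (CohB1.ProjSpace n k).Modules) (i : ℕ) : ℕ :=
  Module.finrank k (Coh.HH (CohB1.ProjSpace n k) F i)

section

variable [HasExt.{u} (CohB1.ProjSpace n k).Modules]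

theorem subsingleton_ext_sum (r q : ℕ) (hq : n + 1 ≤ q) (j : ℕ) :
    Subsingleton (Ext (∐ fun _ : Fin r => O' n k (-(q : ℤ))) (ω' n k) (j + 1)) := by
  classical
  obtain ⟨e1⟩ := Groth.L22.Reg.nonempty_O_add (n := n) (R := k) (show -(q : ℤ) + q = 0 by omega)
  obtain ⟨e2⟩ := Groth.L22.Reg.nonempty_O_zero n k
  obtain ⟨e3⟩ := Groth.L22.Reg.nonempty_O_add (n := n) (R := k) (show -((n : ℤ) + 1) + q = q - n - 1 by omega)
  haveI : Subsingleton (Ext (O' n k (-(q : ℤ))) (ω' n k) (j + 1)) := by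
    refine subsingleton_ext_of_twist (e1 ≪≫ e2) j (ω' n k) (Groth.L22.Reg.subsingleton_iso e3.symm _ ?_)
    exact ProjSpace.subsingleton_HH_twist n k _ _ (fun h => by have := h.1; omega) (fun h => by have := h.2; omega)
  refine subsingleton_of_forall_eq 0 fun x => ?_
  let pr : ∀ _l : Fin r, (∐ fun _ : Fin r => O' n k (-(q : ℤ))) ⟶ O' n k (-(q : ℤ)) := fun l => Sigma.desc fun i =>
    if i = l then 𝟙 _ else 0
  have hid : 𝟙 (∐ fun _ : Fin r => O' n k (-(q : ℤ))) = ∑ l, pr l ≫ Sigma.ι (fun _ : Fin r => O' n k (-(q : ℤ))) l := by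
    refine Sigma.hom_ext _ _ fun i => ?_
    rw [Category.comp_id, Preadditive.comp_sum, Finset.sum_eq_single i]
    · simp [pr]
    · intro l _ hl
      simp [pr, Ne.symm hl]
    · simp
  rw [← Ext.mk₀_id_comp x, hid]
  have hsum : ∀ s : Finset (Fin r), (Ext.mk₀ (∑ l ∈ s, pr l ≫ Sigma.ι (fun _ : Fin r => O' n k (-(q : ℤ))) l)).comp x
      (zero_add (j + 1)) = 0 := by
    intro s
    induction s using Finset.induction_on with
    | empty => rw [Finset.sum_empty, Ext.mk₀_zero, Ext.zero_comp]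
    | insert l s hl ih =>
      rw [Finset.sum_insert hl, Ext.mk₀_add, Ext.add_comp, ih, add_zero, ← Ext.mk₀_comp_mk₀_assoc,
        Subsingleton.elim ((Ext.mk₀ (Sigma.ι (fun _ : Fin r => O' n k (-(q : ℤ))) l)).comp x (zero_add _)) 0,
        Ext.comp_zero]
  exact hsum Finset.univ

theorem subsingleton_HH_sum (r q : ℕ) (hq : 1 ≤ q) {j : ℕ} (hj : j ≠ n) :
    Subsingleton (Coh.HH (CohB1.ProjSpace n k) (∐ fun _ : Fin r => O' n k (-(q : ℤ))) j) :=
  ProjSpace.subsingleton_sigma _ j fun _ =>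
    ProjSpace.subsingleton_HH_twist n k _ _ (fun h => by have := h.2; omega) (fun h => hj h.1)

/-- The statement of duality in degree `i`. -/
def DualAt (F : (CohB1.ProjSpace n k).Modules) (i : ℕ) : Prop :=
  Module.Finite k (Ext F (ω' n k) i) ∧
    Module.finrank k (Ext F (ω' n k) i) = if i ≤ n then hd F (n - i) else 0

theorem dualAt_zero {F : (CohB1.ProjSpace n k).Modules} (hF : Coh.IsCoh F) : DualAt F 0 := by
  haveI := finite_HH hF n
  refine ⟨Module.Finite.equiv (e0 hF).symm, ?_⟩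
  rw [if_pos (Nat.zero_le _), (e0 hF).finrank_eq, Subspace.dual_finrank_eq, hd_def, Nat.sub_zero]

variable {S : ShortComplex (CohB1.ProjSpace n k).Modules}

theorem dualAt_one (hS : S.ShortExact) (h1 : Coh.IsCoh S.X₁) (h2 : Coh.IsCoh S.X₂) (h3 : Coh.IsCoh S.X₃)
    (hE : Subsingleton (Ext S.X₂ (ω' n k) 1))
    (hH : ∀ j, j ≠ n → Subsingleton (Coh.HH (CohB1.ProjSpace n k) S.X₂ j)) : DualAt S.X₃ 1 := by
  let f := Ext.precompOfLinear (Ext.mk₀ S.f) k (ω' n k) (zero_add 0)
  let ε := Ext.precompOfLinear hS.extClass k (ω' n k) (show 1 + 0 = 1 from rfl)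
  have hsurj : Function.Surjective ε := fun x =>
    Ext.contravariant_sequence_exact₃ hS _ x (Subsingleton.elim _ _) rfl
  haveI := finite_HH h1 n
  haveI := finite_HH h2 n
  haveI : Module.Finite k (Ext S.X₁ (ω' n k) 0) := Module.Finite.equiv (e0 h1).symm
  haveI : Module.Finite k (Ext S.X₂ (ω' n k) 0) := Module.Finite.equiv (e0 h2).symm
  refine ⟨Module.Finite.of_surjective ε hsurj, ?_⟩
  have hker : LinearMap.ker ε = LinearMap.range f := by
    refine le_antisymm (fun y hy => ?_) ?_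
    · obtain ⟨z, hz⟩ := Ext.contravariant_sequence_exact₁ hS (ω' n k) y (n₁ := 1) rfl hy
      exact ⟨z, hz⟩
    · rintro _ ⟨z, rfl⟩
      show hS.extClass.comp ((Ext.mk₀ S.f).comp z (zero_add 0)) rfl = 0
      rw [← Ext.comp_assoc_of_second_deg_zero, hS.extClass_comp, Ext.zero_comp]
  let g := overLin k (hmap S.f n)
  have hcomm : ∀ z, e0 h1 (f z) = g.dualMap (e0 h2 z) := fun z => by
    obtain ⟨φ, rfl⟩ := (Ext.mk₀_bijective S.X₂ (ω' n k)).2 z
    show e0 h1 ((Ext.mk₀ S.f).comp (Ext.mk₀ φ) (zero_add 0)) = _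
    rw [Ext.mk₀_comp_mk₀, e0_mk₀, e0_mk₀, B_comp]
    rfl
  have hrange : Submodule.map (e0 h1).toLinearMap (LinearMap.range f) = LinearMap.range g.dualMap := by
    ext ψ
    constructor
    · rintro ⟨_, ⟨z, rfl⟩, rfl⟩
      exact ⟨_, (hcomm z).symm⟩
    · rintro ⟨χ, rfl⟩
      exact ⟨_, ⟨(e0 h2).symm χ, rfl⟩, (hcomm _).trans (by rw [LinearEquiv.apply_symm_apply])⟩
  have hr : Module.finrank k (LinearMap.range f) = Module.finrank k (LinearMap.range g) := by
    rw [← LinearEquiv.finrank_map_eq (e0 h1), ← LinearMap.finrank_range_dualMap_eq_finrank_range g, hrange]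
  have e1 := LinearMap.finrank_range_add_finrank_ker ε
  rw [LinearMap.range_eq_top.2 hsurj, _root_.finrank_top, hker, hr, (e0 h1).finrank_eq, Subspace.dual_finrank_eq] at e1
  have e2 := LinearMap.finrank_range_add_finrank_ker g
  have e3 : Module.finrank k (Ext S.X₃ (ω' n k) 1) = Module.finrank k (LinearMap.ker g) := by omega
  rw [e3]
  clear e1 e2 e3 hr hrange hcomm hker
  cases n with
  | zero =>
    rw [if_neg (by omega), show LinearMap.ker g = ⊥ from LinearMap.ker_eq_bot.2 (show Function.Injective g from Groth.L03.Euler.injective_hmap_zero hS), finrank_bot]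
  | succ m =>
    rw [if_pos (by omega), hd_def, Nat.add_sub_cancel]
    have hS' := CohLinear.exact_delta_hmap hS m
    have hd' : Function.Injective (overLin k (CohLinear.delta hS m)) := by
      rw [injective_iff_map_eq_zero]
      intro x hx
      obtain ⟨y, rfl⟩ := (CohLinear.exact_hmap_delta hS m x).1 hx
      rw [@Subsingleton.elim _ (hH m (by omega)) y 0]
      exact map_zero _
    have hk : LinearMap.ker g = LinearMap.range (overLin k (CohLinear.delta hS m)) := by
      ext x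
      exact hS' x
    rw [hk, LinearMap.finrank_range_of_inj hd']

theorem dualAt_succ (hS : S.ShortExact) {i : ℕ} (hi : 1 ≤ i) (h1 : DualAt S.X₁ i)
    (hE : ∀ j, Subsingleton (Ext S.X₂ (ω' n k) (j + 1)))
    (hH : ∀ j, j ≠ n → Subsingleton (Coh.HH (CohB1.ProjSpace n k) S.X₂ j)) : DualAt S.X₃ (i + 1) := by
  let ε := Ext.precompOfLinear hS.extClass k (ω' n k) (show 1 + i = i + 1 by omega)
  haveI := hE i
  haveI : Subsingleton (Ext S.X₂ (ω' n k) i) := by
    have := hE (i - 1)
    rwa [show i - 1 + 1 = i by omega] at this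
  have hsurj : Function.Surjective ε := fun x =>
    Ext.contravariant_sequence_exact₃ hS _ x (Subsingleton.elim _ _) (show 1 + i = i + 1 by omega)
  have hinj : Function.Injective ε := by
    rw [injective_iff_map_eq_zero]
    intro y hy
    obtain ⟨z, rfl⟩ := Ext.contravariant_sequence_exact₁ hS (ω' n k) y (n₁ := i + 1) (by omega) hy
    rw [Subsingleton.elim z 0, Ext.comp_zero]
  let e := LinearEquiv.ofBijective ε ⟨hinj, hsurj⟩
  haveI := h1.1
  refine ⟨Module.Finite.equiv e, ?_⟩
  rw [← e.finrank_eq, h1.2]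
  by_cases hin : i + 1 ≤ n
  · rw [if_pos (by omega), if_pos hin]
    obtain ⟨m, hm⟩ : ∃ m, n - (i + 1) = m := ⟨_, rfl⟩
    rw [hm, show n - i = m + 1 by omega, hd_def, hd_def]
    refine (LinearEquiv.ofBijective (overLin k (CohLinear.delta hS m)) ⟨?_, fun y => ?_⟩).finrank_eq.symm
    · rw [injective_iff_map_eq_zero]
      intro x hx
      obtain ⟨y, rfl⟩ := (CohLinear.exact_hmap_delta hS m x).1 hx
      rw [@Subsingleton.elim _ (hH m (by omega)) y 0]
      exact map_zero _
    · exact (CohLinear.exact_delta_hmap hS m y).1 (@Subsingleton.elim _ (hH (m + 1) (by omega)) _ _)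
  · rw [if_neg hin]
    split
    · rw [show n - i = 0 by omega, hd_def]
      haveI : Subsingleton (Coh.HH (CohB1.ProjSpace n k) S.X₁ 0) :=
        (haveI := hH 0 (by omega); (Groth.L03.Euler.injective_hmap_zero hS).subsingleton)
      exact Module.finrank_zero_of_subsingleton
    · rfl

theorem dualAt : ∀ (i : ℕ) (F : (CohB1.ProjSpace n k).Modules), Coh.IsCoh F → DualAt F i
  | 0, F, hF => dualAt_zero hF
  | i + 1, F, hF => by
    obtain ⟨q, r, p, hq, hp⟩ := exists_epi_twists hF (n + 1)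
    haveI := proper n k
    haveI := Groth.L21.RR.isNoetherian_of_proper (X := CohB1.ProjSpace n k) k
    haveI := hF.1
    have hE := isCoh_sum (n := n) (k := k) r (-(q : ℤ))
    let S := ShortComplex.mk (kernel.ι p) p (kernel.condition p)
    have hS : S.ShortExact := { exact := ShortComplex.exact_kernel p }
    have hK : Coh.IsCoh S.X₁ := (CohKernel.isCoh_kernel_cokernel hE hF p).1
    rcases Nat.eq_zero_or_pos i with rfl | hi
    · exact dualAt_one (S := S) hS hK hE hF (subsingleton_ext_sum r q hq 0)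
        fun j hj => subsingleton_HH_sum r q (by omega) hj
    · exact dualAt_succ (S := S) hS hi (dualAt i _ hK) (subsingleton_ext_sum r q hq)
        fun j hj => subsingleton_HH_sum r q (by omega) hj

theorem nonempty_ext_equiv_dual {F : (CohB1.ProjSpace n k).Modules} (hF : Coh.IsCoh F) {i : ℕ} (hi : i ≤ n) :
    Nonempty (Ext F (ω' n k) i ≃ₗ[k] Module.Dual k (Coh.HH (CohB1.ProjSpace n k) F (n - i))) := by
  obtain ⟨h1, h2⟩ := dualAt (n := n) (k := k) i F hF
  haveI := h1
  haveI := finite_HH hF (n - i)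
  rw [if_pos hi, hd_def] at h2
  exact ⟨LinearEquiv.ofFinrankEq _ _ (by rw [h2, Subspace.dual_finrank_eq])⟩

theorem subsingleton_ext {F : (CohB1.ProjSpace n k).Modules} (hF : Coh.IsCoh F) {i : ℕ} (hi : n < i) :
    Subsingleton (Ext F (ω' n k) i) := by
  obtain ⟨h1, h2⟩ := dualAt (n := n) (k := k) i F hF
  haveI := h1
  rw [if_neg (by omega)] at h2
  exact Module.finrank_zero_iff.1 h2

theorem subsingleton_ext_iff {F : (CohB1.ProjSpace n k).Modules} (hF : Coh.IsCoh F) {i : ℕ} (hi : i ≤ n) :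
    Subsingleton (Ext F (ω' n k) i) ↔ Subsingleton (Coh.HH (CohB1.ProjSpace n k) F (n - i)) := by
  obtain ⟨h1, h2⟩ := dualAt (n := n) (k := k) i F hF
  haveI := h1
  haveI := finite_HH hF (n - i)
  rw [if_pos hi, hd_def] at h2
  rw [← Module.finrank_zero_iff (R := k), h2, Module.finrank_zero_iff]

end

end Groth.L22.PDual
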