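import Groth.Agent.L22.PDual.EnriquesSeveri
import Groth.Agent.L16.Exist.AdicVanish
import Groth.Agent.L17.ClosedPush
import Groth.Agent.L04.Depth2
import Groth.Agent.L01.AusBuch
import Groth.Agent.L06.FlatCodepth
import Groth.Agent.L15.CohFlat
import Groth.Agent.L16.NegPow.Gen
import Groth.Agent.L22.Reg.Closed

/-!
Cohen–Macaulay equidimensional projective schemes and the vanishing of `H^j(X, F(-q))`.
-/

set_option autoImplicit false
set_option backward.isDefEq.respectTransparency false
set_option linter.style.haveILetI false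
universe u

open CategoryTheory CategoryTheory.Limits AlgebraicGeometry TopologicalSpace Opposite
open IsLocalRing

noncomputable section

namespace Groth.L22.PDual

open Groth.L16
open Groth.L22.Reg (O' tw')

variable {k : Type u} [Field k] {N : ℕ} {X : Scheme.{u}} (i : X ⟶ CohB1.ProjSpace N k) [IsClosedImmersion i]

theorem subsingleton_push_twist_iff (F : X.Modules) (m : ℤ) (j : ℕ) :
    Subsingleton (Coh.HH (CohB1.ProjSpace N k) (tw' ((Coh.push i).obj F) m) j) ↔
      Subsingleton (Coh.HH X (CohB1.tensorMod F ((Scheme.Modules.pullback i).obj (O' N k m))) j) := by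
  let L := (Scheme.Modules.pullback i).obj (O' N k m)
  let e : tw' ((Coh.push i).obj F) m ≅ (Coh.push i).obj (CohB1.tensorMod F L) :=
    Groth.L00.Tensor.tensorComm _ _ ≪≫
      (Groth.L17.ProjFormula.projIso i (O' N k m) (Groth.L20.ResDescent.isFinLocFree_of_isInvertible
        (ProjTwist.isInvertible_twistProjSpace N k m))).app F ≪≫
      (Coh.push i).mapIso (Groth.L00.Tensor.tensorComm L F)
  obtain ⟨e'⟩ := Groth.L17.nonempty_HH_push_of_isClosedImmersion i (CohB1.tensorMod F L) j
  constructor
  · intro h
    have := Groth.L16.ProjSpace.subsingleton_of_iso e.symm j h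
    exact e'.toEquiv.subsingleton
  · intro h
    exact Groth.L16.ProjSpace.subsingleton_of_iso e j e'.symm.toEquiv.subsingleton

theorem isCoh_push_vb {F : X.Modules} (hF : FlatMod.IsFinLocFree F) : Coh.IsCoh ((Coh.push i).obj F) := by
  haveI := proper N k
  haveI := Groth.L21.RR.isNoetherian_of_proper (X := CohB1.ProjSpace N k) k
  haveI : IsLocallyNoetherian X := LocallyOfFiniteType.isLocallyNoetherian i
  exact Groth.L22.Reg.isCoh_push_closed i (Groth.L16.NegPow.isCoh_of_isFinLocFree hF)

/-- The depth of the stalk of a pushforward along a closed immersion. -/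
theorem depth_stalk_push {F : X.Modules} (x : X) [Module.Finite (X.presheaf.stalk x) (F.presheaf.stalk x)] :
    LocCoh.depth ((CohB1.ProjSpace N k).presheaf.stalk (i x))
        (((Coh.push i).obj F).presheaf.stalk (i x)) =
      LocCoh.depth (X.presheaf.stalk x) (F.presheaf.stalk x) := by
  haveI := regular_stalk (i x)
  let R := (CohB1.ProjSpace N k).presheaf.stalk (i x)
  let B := X.presheaf.stalk x
  letI : Algebra R B := (i.stalkMap x).hom.toAlgebra
  have hsurj : Function.Surjective (algebraMap R B) := i.stalkMap_surjective x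
  haveI : Module.Finite R B := Module.Finite.of_surjective (Algebra.linearMap R B) hsurj
  letI : Module R (F.presheaf.stalk x) := Module.compHom _ (algebraMap R B)
  haveI : IsScalarTower R B (F.presheaf.stalk x) := IsScalarTower.of_algebraMap_smul fun _ _ => rfl
  let g : ((Coh.push i).obj F).presheaf.stalk (i x) →ₗ[R] F.presheaf.stalk x :=
    { toFun := fun p => Groth.L17.ClosedPush.c₀ i F x p
      map_add' := fun p q => map_add (Groth.L17.ClosedPush.c₀ i F x) p q
      map_smul' := fun r p => Groth.L17.ClosedPush.c₀_smul i F x r p }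
  let e : ((Coh.push i).obj F).presheaf.stalk (i x) ≃ₗ[R] F.presheaf.stalk x :=
    LinearEquiv.ofBijective g (Groth.L17.ClosedPush.c₀_bijective i F x)
  rw [LocCoh.depth, LocCoh.depth, Groth.L04.idealDepth_congr e,
    Groth.L04.idealDepth_eq_idealDepth_map_of_finite (maximalIdeal R) (F.presheaf.stalk x) (B := B),
    IsLocalRing.map_maximalIdeal_of_surjective (algebraMap R B) hsurj]

theorem cm_iff_vanish (n : ℕ) (hn : topologicalKrullDim ↥X = n) :
    (∀ x : X, IsClosed ({x} : Set ↥X) →
        LocCoh.IsCohenMacaulayLocalRing (X.presheaf.stalk x) ∧ ringKrullDim (X.presheaf.stalk x) = n) ↔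
      ∀ F : X.Modules, FlatMod.IsFinLocFree F → ∃ q₀ : ℕ, ∀ q : ℕ, q₀ ≤ q → ∀ j : ℕ, j < n →
        Subsingleton (Coh.HH X (CohB1.tensorMod F
          ((Scheme.Modules.pullback i).obj (Twist.twistProjSpace N k (-(q : ℤ))))) j) := by
  haveI := proper N k
  haveI := Groth.L21.RR.isNoetherian_of_proper (X := CohB1.ProjSpace N k) k
  haveI : IsLocallyNoetherian X := LocallyOfFiniteType.isLocallyNoetherian i
  have hcl : ∀ x : X, IsClosed ({x} : Set ↥X) → IsClosed ({i x} : Set (CohB1.ProjSpace N k)) := fun x hx => by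
    rw [← Set.image_singleton]
    exact i.isClosedEmbedding.isClosedMap _ hx
  rcases n with _ | p
  · refine iff_of_true (fun x hx => ?_) fun F _ => ⟨0, fun q _ j hj => absurd hj (Nat.not_lt_zero _)⟩
    have hd : ringKrullDim (X.presheaf.stalk x) = 0 :=
      le_antisymm ((Groth.L15.CohFlat.ringKrullDim_stalk_le x).trans (hn.trans Nat.cast_zero).le)
        ringKrullDim_nonneg_of_nontrivial
    refine ⟨{ supportDim_eq_depth := ?_ }, hd.trans Nat.cast_zero.symm⟩
    rw [Module.supportDim_self_eq_ringKrullDim]
    refine le_antisymm ?_ (Groth.L06.FlatCodepth.depth_le_dim _)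
    rw [hd]
    exact WithBot.coe_le_coe.2 zero_le
  constructor
  · intro h F hF
    obtain ⟨m₀, hm₀⟩ := (vanish_below_iff_depth (isCoh_push_vb i hF) p).2 fun z hz => by
      by_cases hr : z ∈ Set.range i
      · obtain ⟨x, rfl⟩ := hr
        have hx : IsClosed ({x} : Set ↥X) := by
          have := hz.preimage i.continuous
          rwa [show i ⁻¹' {i x} = {x} from Set.ext fun w =>
            ⟨fun h => i.isClosedEmbedding.injective h, fun h => congrArg _ h⟩] at this
        haveI := Groth.L18.LFP.finite_stalk F (Groth.L18.LFP.isFP_of_isFinLocFree F hF) x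
        rw [depth_stalk_push i x]
        obtain ⟨hcm, hd⟩ := h x hx
        haveI := hcm
        haveI := Groth.L18.LFP.finite_stalk F (Groth.L18.LFP.isFP_of_isFinLocFree F hF) x
        haveI := Groth.L18.LFP.free_stalk F hF x
        refine lt_of_lt_of_le (b := ((p + 1 : ℕ) : ℕ∞)) (by exact_mod_cast p.lt_succ_self) ?_
        rcases subsingleton_or_nontrivial (F.presheaf.stalk x) with hs | hs
        · rw [LocCoh.depth, Groth.L04.idealDepth_eq_top (Subsingleton.elim _ _)]
          exact le_top
        · rw [Groth.L01.AusBuch.depth_free]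
          have h1 := hcm.supportDim_eq_depth
          rw [Module.supportDim_self_eq_ringKrullDim, hd] at h1
          exact le_of_eq (WithBot.coe_injective h1)
      · haveI : Subsingleton (((Coh.push i).obj F).presheaf.stalk z) :=
          Groth.L17.ClosedPush.subsingleton_stalk_push i F hr
        rw [LocCoh.depth, Groth.L04.idealDepth_eq_top (Subsingleton.elim _ _)]
        exact ENat.natCast_lt_top _
    refine ⟨m₀.toNat, fun q hq j hj => (subsingleton_push_twist_iff i F _ j).1 ?_⟩
    exact hm₀ q (by omega) j (by omega)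
  · intro h x hx
    have hO : FlatMod.IsFinLocFree (Coh.structureModule X) :=
      Groth.L20.ResDescent.isFinLocFree_of_isInvertible (Groth.L18.Ample.isInvertible_structureModule X)
    obtain ⟨q₀, hq₀⟩ := h _ hO
    have hdep := (vanish_below_iff_depth (isCoh_push_vb i hO) p).1 ⟨q₀, fun m hm j hj => by
      obtain ⟨q, rfl⟩ : ∃ q : ℕ, m = q := ⟨m.toNat, by omega⟩
      exact (subsingleton_push_twist_iff i _ _ j).2 (hq₀ q (by exact_mod_cast hm) j (by omega))⟩
      (i x) (hcl x hx)
    obtain ⟨v, hv⟩ := Groth.L21.RR.exists_frame_stalk (Groth.L18.Ample.isInvertible_structureModule X) x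
    haveI := Groth.L18.LFP.finite_stalk _ (Groth.L18.LFP.isFP_of_isFinLocFree _ hO) x
    rw [depth_stalk_push i x, LocCoh.depth,
      ← Groth.L04.idealDepth_congr (LinearEquiv.ofBijective (LinearMap.toSpanSingleton _ _ v) hv)] at hdep
    have h1 : ((p + 1 : ℕ) : WithBot ℕ∞) ≤
        ((LocCoh.depth (X.presheaf.stalk x) (X.presheaf.stalk x) : ℕ∞) : WithBot ℕ∞) :=
      WithBot.coe_le_coe.2 (by rw [Nat.cast_succ]; exact Order.add_one_le_of_lt hdep)
    have h2 := Groth.L06.FlatCodepth.depth_le_dim (X.presheaf.stalk x)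
    have h3 : ringKrullDim (X.presheaf.stalk x) ≤ ((p + 1 : ℕ) : WithBot ℕ∞) :=
      hn ▸ Groth.L15.CohFlat.ringKrullDim_stalk_le x
    refine ⟨{ supportDim_eq_depth := ?_ }, le_antisymm h3 (h1.trans h2)⟩
    rw [Module.supportDim_self_eq_ringKrullDim]
    exact le_antisymm (h3.trans h1) h2

end Groth.L22.PDual
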