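import Groth.Agent.L22.PDual.Perfect
import Groth.Agent.L22.PDual.TwistExt
import Groth.Agent.L22.Reg.PnGen
import Groth.Agent.L22.Reg.ClosedQuot
import Groth.Agent.L22.Inter.PullNum
import Groth.Agent.L22.CurveDeg.ZeroDim

/-!
The splitting criterion of Horrocks on projective space.
-/

set_option autoImplicit false
set_option backward.isDefEq.respectTransparency false
set_option linter.style.haveILetI false
universe u

open CategoryTheory CategoryTheory.Limits AlgebraicGeometry TopologicalSpace Opposite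

noncomputable section

namespace Groth.L22.PDual

open Groth.L16
open Groth.L00.Tensor (tensorRightF tensorIso tensorUnitLeft tensorUnitRight)
open Groth.L22.Reg (O' tw' Regular)
open Groth.L16.CohLinear (hmap hmap_comp hmap_id overLin tm)
open Groth.L16.CohSupport (len)

variable {k : Type u} [Field k] {n : ℕ}

theorem isCoh_tw {F : (CohB1.ProjSpace n k).Modules} (hF : Coh.IsCoh F) (d : ℤ) : Coh.IsCoh (tw' F d) :=
  haveI := proper n k
  Groth.L03.Euler.isCoh_tensor (ProjTwist.isInvertible_twistProjSpace n k d) hF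

theorem isEquivalence_tw (d : ℤ) : (tensorRightF (O' n k d)).IsEquivalence := by
  obtain ⟨e⟩ := Groth.L22.Reg.nonempty_O_add (n := n) (R := k) (show d + -d = 0 by omega)
  obtain ⟨e0⟩ := Groth.L22.Reg.nonempty_O_zero n k
  exact isEquivalence_tensorRightF (e ≪≫ e0)

theorem subsingleton_of_retract {A B : (CohB1.ProjSpace n k).Modules} (i : A ⟶ B) (p : B ⟶ A) (h : i ≫ p = 𝟙 A)
    (q : ℕ) (hB : Subsingleton (Coh.HH (CohB1.ProjSpace n k) B q)) :
    Subsingleton (Coh.HH (CohB1.ProjSpace n k) A q) :=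
  (show Function.Injective (hmap i q) from fun x y hxy => by
    rw [← hmap_id q x, ← hmap_id q y, ← h, hmap_comp, hmap_comp, hxy]).subsingleton

/-- A nonzero form gives a nonzero section. -/
theorem exists_section_comp_ne_zero {G N : (CohB1.ProjSpace n k).Modules} (hG : Curv2.IsGloballyGenerated G)
    {φ : G ⟶ N} (hφ : φ ≠ 0) : ∃ s : Coh.structureModule (CohB1.ProjSpace n k) ⟶ G, s ≫ φ ≠ 0 := by
  by_contra hc
  push Not at hc
  obtain ⟨ι, p, hp⟩ := hG
  refine hφ ((cancel_epi p).1 ?_)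
  refine Sigma.hom_ext (f := fun _ : ι => SheafOfModules.unit (CohB1.ProjSpace n k).ringCatSheaf) _ _ fun i => ?_
  rw [← Category.assoc, comp_zero, comp_zero]
  exact hc _

theorem isIso_of_endo_ne_zero {c : Coh.structureModule (CohB1.ProjSpace n k) ⟶
    Coh.structureModule (CohB1.ProjSpace n k)} (hc : c ≠ 0) : IsIso c := by
  haveI := proper n k
  haveI := Groth.L21.RR.isNoetherian_of_proper (X := CohB1.ProjSpace n k) k
  have hO := Groth.L18.Ample.isInvertible_structureModule (CohB1.ProjSpace n k)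
  haveI : Mono c := mono_of_ne_zero hO hO hc
  haveI := finite_HH (n := n) (k := k) (Groth.L18.Ample.isCoh_of_isInvertible hO) 0
  have hinj : Function.Injective (overLin k (hmap c 0)) := Groth.L21.RR.injective_hmap_zero c
  have hsurj := LinearMap.injective_iff_surjective.1 hinj
  obtain ⟨h, hh⟩ := exists_lift_section c hsurj (𝟙 _)
  haveI : IsSplitEpi c := ⟨⟨⟨h, hh⟩⟩⟩
  exact isIso_of_mono_of_epi c

theorem regular_of_middle {E : (CohB1.ProjSpace n k).Modules} (hE : Coh.IsCoh E)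
    (hmid : ∀ (t : ℤ) (i : ℕ), 0 < i → i < n → Subsingleton (Coh.HH (CohB1.ProjSpace n k) (tw' E t) i))
    {m : ℤ} (htop : Subsingleton (Coh.HH (CohB1.ProjSpace n k) (tw' E (m - n)) n)) : Regular E m := by
  haveI := hE.1
  refine Groth.L22.Reg.regular_of_le_n fun q hq hqn => ?_
  rcases hqn.lt_or_eq with h | rfl
  · exact hmid _ q (by omega) h
  · exact htop

theorem isZero_of_gg {G : (CohB1.ProjSpace n k).Modules} (hG : Curv2.IsGloballyGenerated G)
    (h0 : Subsingleton (Coh.HH (CohB1.ProjSpace n k) G 0)) : IsZero G := by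
  rw [IsZero.iff_id_eq_zero]
  by_contra hne
  obtain ⟨s, hs⟩ := exists_section_comp_ne_zero hG hne
  rw [Category.comp_id] at hs
  exact hs (Groth.L21.RR.hom_ext_one ((Groth.L21.RR.e0 G).symm.injective (Subsingleton.elim _ _)))

/-- An untwist. -/
theorem nonempty_untwist (E : (CohB1.ProjSpace n k).Modules) (m : ℤ) :
    Nonempty (tw' (tw' E m) (-m) ≅ E) := by
  obtain ⟨a⟩ := Groth.L22.Reg.nonempty_tw_tw E (show m + -m = 0 by omega)
  obtain ⟨b⟩ := Groth.L22.Reg.nonempty_tw_zero E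
  exact ⟨a ≪≫ b⟩

theorem isZero_of_isZero_tw {E : (CohB1.ProjSpace n k).Modules} {m : ℤ} (h : IsZero (tw' E m)) : IsZero E := by
  obtain ⟨e⟩ := nonempty_untwist E m
  exact IsZero.of_iso ((tensorRightF (O' n k (-m))).map_isZero h) e.symm

/-- A nonzero map `E(m - 1 - n) ⟶ ω` splits off `O(-m)` when `E(m)` is globally generated. -/
theorem exists_retract {E : (CohB1.ProjSpace n k).Modules} (hE : Coh.IsCoh E) {m : ℤ}
    (hgg : Curv2.IsGloballyGenerated (tw' E m))
    (hn : Nontrivial (Coh.HH (CohB1.ProjSpace n k) (tw' E (m - 1 - n)) n)) :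
    ∃ (i : O' n k (-m) ⟶ E) (p : E ⟶ O' n k (-m)), i ≫ p = 𝟙 _ := by
  obtain ⟨x, hx⟩ := exists_ne (0 : Coh.HH (CohB1.ProjSpace n k) (tw' E (m - 1 - n)) n)
  obtain ⟨ψ, hψ⟩ : ∃ ψ : Module.Dual k (Coh.HH (CohB1.ProjSpace n k) (tw' E (m - 1 - n)) n), ψ x ≠ 0 := by
    by_contra hc
    push Not at hc
    exact hx ((Module.forall_dual_apply_eq_zero_iff k x).1 hc)
  obtain ⟨φ, rfl⟩ := (bijective_B (isCoh_tw hE _)).2 ψ
  have hφ : φ ≠ 0 := by
    rintro rfl
    rw [map_zero] at hψ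
    exact hψ rfl
  haveI := isEquivalence_tw (n := n) (k := k) ((n : ℤ) + 1)
  obtain ⟨a⟩ := Groth.L22.Reg.nonempty_tw_tw E (show m - 1 - (n : ℤ) + ((n : ℤ) + 1) = m by omega)
  obtain ⟨b⟩ := Groth.L22.Reg.nonempty_O_add (n := n) (R := k) (show -((n : ℤ) + 1) + ((n : ℤ) + 1) = 0 by omega)
  obtain ⟨e0⟩ := Groth.L22.Reg.nonempty_O_zero n k
  let ψ' : tw' E m ⟶ Coh.structureModule (CohB1.ProjSpace n k) :=
    a.inv ≫ (tensorRightF (O' n k ((n : ℤ) + 1))).map φ ≫ (b ≪≫ e0).hom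
  have hψ' : ψ' ≠ 0 := by
    intro h0
    refine hφ ((tensorRightF (O' n k ((n : ℤ) + 1))).map_injective ?_)
    rw [Functor.map_zero]
    simp only [ψ', ← Category.assoc, Preadditive.IsIso.comp_right_eq_zero] at h0
    exact (Preadditive.IsIso.comp_left_eq_zero a.inv _).1 h0
  obtain ⟨s, hs⟩ := exists_section_comp_ne_zero hgg hψ'
  haveI := isIso_of_endo_ne_zero hs
  obtain ⟨c⟩ := nonempty_untwist E m
  let T := tensorRightF (O' n k (-m))
  let u : T.obj (Coh.structureModule (CohB1.ProjSpace n k)) ≅ O' n k (-m) := tensorUnitLeft _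
  refine ⟨u.inv ≫ T.map s ≫ c.hom, c.inv ≫ T.map (ψ' ≫ inv (s ≫ ψ')) ≫ u.hom, ?_⟩
  simp only [Category.assoc, Iso.hom_inv_id_assoc]
  rw [← Functor.map_comp_assoc, ← Category.assoc s, IsIso.hom_inv_id, CategoryTheory.Functor.map_id, Category.id_comp,
    Iso.inv_hom_id]

/-- Adding one summand. -/
theorem nonempty_biprod_sigma {C : Type*} [Category C] [Abelian C] {A : C} {r : ℕ} {M : Fin r → C}
    [HasCoproduct M] [HasCoproduct (Fin.cons A M : Fin (r + 1) → C)] :
    Nonempty (A ⊞ (∐ M) ≅ ∐ (Fin.cons A M : Fin (r + 1) → C)) := by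
  let N : Fin (r + 1) → C := Fin.cons A M
  refine ⟨{
    hom := biprod.desc (Sigma.ι N 0) (Sigma.desc fun i => Sigma.ι N i.succ)
    inv := Sigma.desc (Fin.cases (motive := fun j => N j ⟶ A ⊞ (∐ M)) (biprod.inl : A ⟶ A ⊞ (∐ M))
      fun i => Sigma.ι M i ≫ biprod.inr)
    hom_inv_id := ?_
    inv_hom_id := ?_ }⟩
  · refine biprod.hom_ext' _ _ ?_ (Sigma.hom_ext _ _ fun i => ?_)
    · rw [biprod.inl_desc_assoc, Sigma.ι_desc, Category.comp_id]
      rfl
    · rw [biprod.inr_desc_assoc, Sigma.ι_desc_assoc, Sigma.ι_desc, Category.comp_id]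
      rfl
  · refine Sigma.hom_ext _ _ (Fin.cases ?_ fun i => ?_)
    · rw [Sigma.ι_desc_assoc, Category.comp_id]
      exact biprod.inl_desc _ _
    · rw [Sigma.ι_desc_assoc, Category.comp_id]
      show (Sigma.ι M i ≫ biprod.inr) ≫ biprod.desc _ _ = _
      rw [Category.assoc, biprod.inr_desc, Sigma.ι_desc]

theorem len_twist (d : ℤ) : len (genericPoint (CohB1.ProjSpace n k)) (O' n k d) = 1 := by
  haveI := proper n k
  haveI := Groth.L21.RR.isNoetherian_of_proper (X := CohB1.ProjSpace n k) k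
  exact Groth.L22.Nakai.len_of_isInvertible (ProjTwist.isInvertible_twistProjSpace n k d)

/-- The conclusion: a sum of twists, with the number of summands. -/
def Split (E : (CohB1.ProjSpace n k).Modules) : Prop :=
  ∃ (r : ℕ) (a : Fin r → ℤ), Nonempty (E ≅ ∐ fun j => O' n k (a j)) ∧
    len (genericPoint (CohB1.ProjSpace n k)) E = r

theorem split_zero {E : (CohB1.ProjSpace n k).Modules} (hE : IsZero E) : Split E := by
  refine ⟨0, Fin.elim0, ⟨hE.iso ?_⟩, ?_⟩
  · rw [IsZero.iff_id_eq_zero]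
    exact Sigma.hom_ext _ _ fun j => j.elim0
  · rw [Nat.cast_zero, CohSupport.len_eq_zero_iff, (Groth.L21.Mod.isZero_iff_support_eq_empty E).1 hE]
    exact fun h => h

theorem split_step {E : (CohB1.ProjSpace n k).Modules} {m : ℤ} (i : O' n k (-m) ⟶ E) (p : E ⟶ O' n k (-m))
    (h : i ≫ p = 𝟙 _) (hK : Split (kernel p)) : Split E := by
  obtain ⟨r, a, ⟨e⟩, hlen⟩ := hK
  haveI : IsSplitEpi p := ⟨⟨⟨i, h⟩⟩⟩
  let S := ShortComplex.mk (kernel.ι p) p (kernel.condition p)
  have hS : S.ShortExact := { exact := ShortComplex.exact_kernel p }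
  let σ : S.Splitting := ShortComplex.Splitting.ofExactOfSection S hS.exact i h inferInstance
  obtain ⟨c⟩ := nonempty_biprod_sigma (A := O' n k (-m)) (M := fun j => O' n k (a j))
  refine ⟨r + 1, Fin.cons (-m) a, ⟨σ.isoBinaryBiproduct ≪≫ biprod.braiding _ _ ≪≫
    biprod.mapIso (Iso.refl _) e ≪≫ c ≪≫ Sigma.mapIso (fun j => eqToIso ?_)⟩, ?_⟩
  · revert j
    exact Fin.cases rfl fun _ => rfl
  · rw [CohSupport.len_add hS (genericPoint _), show len _ S.X₁ = (r : ℕ∞) from hlen,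
      show len _ S.X₃ = (1 : ℕ∞) from len_twist (-m)]
    push_cast
    rfl

theorem exists_m {E : (CohB1.ProjSpace n k).Modules} (hE : Coh.IsCoh E) (hE0 : ¬ IsZero E)
    (hlow : n = 0 ∨ ∃ b : ℤ, ∀ t : ℤ, t ≤ b → Subsingleton (Coh.HH (CohB1.ProjSpace n k) (tw' E t) 0))
    (hmid : ∀ (t : ℤ) (i : ℕ), 0 < i → i < n → Subsingleton (Coh.HH (CohB1.ProjSpace n k) (tw' E t) i))
    {M : ℤ} (hM : Regular E M) :
    ∃ m : ℤ, m ≤ M ∧ Regular E m ∧ Nontrivial (Coh.HH (CohB1.ProjSpace n k) (tw' E (m - 1 - n)) n) := by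
  rcases Nat.eq_zero_or_pos n with rfl | hn
  · have hall : ∀ d : ℤ, Regular E d := fun d => by
      haveI := hE.1
      exact Groth.L22.Reg.regular_of_le_n fun q hq hq' => by omega
    refine ⟨M, le_rfl, hall M, ?_⟩
    rw [← not_subsingleton_iff_nontrivial]
    intro hs
    exact hE0 (isZero_of_isZero_tw (m := M - 1 - ((0 : ℕ) : ℤ))
      (isZero_of_gg ((hall _).isGloballyGenerated hE le_rfl) hs))
  obtain ⟨b, hb⟩ := hlow.resolve_left (by omega)
  have hnr : ∀ d : ℤ, d ≤ b → ¬ Regular E d := fun d hd h =>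
    hE0 (isZero_of_isZero_tw (isZero_of_gg (h.isGloballyGenerated hE le_rfl) (hb d hd)))
  classical
  have hex : ∃ j : ℕ, Regular E (b + j) :=
    ⟨(M - b).toNat, hM.of_le (by omega)⟩
  have hmin := Nat.find_spec hex
  have hpos : Nat.find hex ≠ 0 := fun h => hnr b le_rfl (by simpa [h] using hmin)
  refine ⟨b + Nat.find hex, ?_, hmin, ?_⟩
  · have hbM : b < M := by
      by_contra hc
      exact hnr M (by omega) hM
    have := Nat.find_min' hex (m := (M - b).toNat) (by rwa [show b + ((M - b).toNat : ℤ) = M by omega])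
    omega
  · rw [← not_subsingleton_iff_nontrivial]
    intro hs
    refine Nat.find_min hex (m := Nat.find hex - 1) (by omega) (regular_of_middle hE hmid ?_)
    rwa [show b + ((Nat.find hex - 1 : ℕ) : ℤ) - n = b + (Nat.find hex : ℤ) - 1 - n by omega]

theorem split_aux (M : ℤ) (hnM : n = 0 → 0 ≤ M) : ∀ (N : ℕ) (E : (CohB1.ProjSpace n k).Modules), Coh.IsCoh E →
    Module.finrank k (Coh.HH (CohB1.ProjSpace n k) (tw' E M) 0) < N →
    (n = 0 ∨ ∃ b : ℤ, ∀ t : ℤ, t ≤ b → Subsingleton (Coh.HH (CohB1.ProjSpace n k) (tw' E t) 0)) →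
    (∀ (t : ℤ) (i : ℕ), 0 < i → i < n → Subsingleton (Coh.HH (CohB1.ProjSpace n k) (tw' E t) i)) →
    Regular E M → Split E
  | 0, _, _, h, _, _, _ => absurd h (Nat.not_lt_zero _)
  | N + 1, E, hE, hN, hlow, hmid, hM => by
    by_cases hE0 : IsZero E
    · exact split_zero hE0
    obtain ⟨m, hmM, hm, hnt⟩ := exists_m hE hE0 hlow hmid hM
    obtain ⟨i, p, hip⟩ := exists_retract hE (hm.isGloballyGenerated hE le_rfl) hnt
    refine split_step i p hip ?_
    haveI : IsSplitEpi p := ⟨⟨⟨i, hip⟩⟩⟩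
    haveI := proper n k
    haveI := Groth.L21.RR.isNoetherian_of_proper (X := CohB1.ProjSpace n k) k
    have hO := isCoh_O (n := n) (k := k) (-m)
    haveI := hO.1
    have hK := (CohKernel.isCoh_kernel_cokernel hE hO p).1
    let S := ShortComplex.mk (kernel.ι p) p (kernel.condition p)
    have hS : S.ShortExact := { exact := ShortComplex.exact_kernel p }
    let σ : S.Splitting := ShortComplex.Splitting.ofExactOfSection S hS.exact i hip inferInstance
    have hret : ∀ (t : ℤ) (q : ℕ), Subsingleton (Coh.HH (CohB1.ProjSpace n k) (tw' E t) q) →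
        Subsingleton (Coh.HH (CohB1.ProjSpace n k) (tw' (kernel p) t) q) := fun t q =>
      subsingleton_of_retract ((tensorRightF (O' n k t)).map S.f) ((tensorRightF (O' n k t)).map σ.r)
        (by rw [← Functor.map_comp, σ.f_r, CategoryTheory.Functor.map_id]) q
    refine split_aux M hnM N (kernel p) hK ?_ (hlow.imp id fun ⟨b, hb⟩ => ⟨b, fun t ht => hret t 0 (hb t ht)⟩)
      (fun t q h1 h2 => hret t q (hmid t q h1 h2)) (fun q hq => hret _ q (hM q hq))
    refine lt_of_lt_of_le ?_ (Nat.le_of_lt_succ hN)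
    haveI := finite_HH (isCoh_tw hE M) 0
    haveI := finite_HH (isCoh_tw hK M) 0
    let T := tensorRightF (O' n k M)
    let fK := overLin k (hmap (T.map S.f) 0)
    have hinj : Function.Injective fK := fun x y hxy => by
      have h1 : ∀ z, hmap (T.map σ.r) 0 (fK z) = z := fun z => by
        show hmap (T.map σ.r) 0 (hmap (T.map S.f) 0 z) = z
        rw [← hmap_comp, ← Functor.map_comp, σ.f_r, CategoryTheory.Functor.map_id, hmap_id]
      rw [← h1 x, ← h1 y, hxy]
    refine lt_of_le_of_ne (LinearMap.finrank_le_finrank_of_injective hinj) fun heq => ?_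
    have hsurj := (LinearMap.injective_iff_surjective_of_finrank_eq_finrank heq).1 hinj
    haveI : Subsingleton (Coh.HH (CohB1.ProjSpace n k) (tw' (O' n k (-m)) M) 0) := by
      refine subsingleton_of_forall_eq 0 fun y => ?_
      obtain ⟨z, hz⟩ := hsurj (hmap (T.map i) 0 y)
      have h2 := congrArg (hmap (T.map p) 0) hz
      change hmap (T.map p) 0 (hmap (T.map S.f) 0 z) = hmap (T.map p) 0 (hmap (T.map i) 0 y) at h2
      rw [← hmap_comp, ← hmap_comp, ← Functor.map_comp, ← Functor.map_comp, hip, S.zero,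
        CategoryTheory.Functor.map_id, hmap_id, Functor.map_zero] at h2
      rw [← h2]
      show Sheaf.H.map (tm 0) 0 z = 0
      rw [tm, Functor.map_zero]
      change ((Sheaf.functorH _ 0).map 0).hom z = 0
      rw [Functor.map_zero]
      rfl
    obtain ⟨e⟩ := Groth.L22.Reg.nonempty_O_add (n := n) (R := k) (show -m + M = M - m by omega)
    obtain ⟨j, hj⟩ : ∃ j : ℕ, M - m = j := ⟨(M - m).toNat, by omega⟩
    obtain ⟨e0⟩ := Groth.L22.Reg.nonempty_O_zero n k
    rw [hj] at e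
    let s : Coh.structureModule (CohB1.ProjSpace n k) ⟶ O' n k (j : ℤ) :=
      e0.inv ≫ SyzTilde.mulHom (p := (MvPolynomial.X 0) ^ j) (δ := (j : ℤ))
        (SyzTilde.mem_G_cast.2 (by simpa using SetLike.pow_mem_graded j (ProjSpace.X_mem n k 0))) (zero_add _)
    have hs : s ≠ 0 := fun h => mulHom_ne_zero _ _ (pow_ne_zero j (MvPolynomial.X_ne_zero 0))
      ((Preadditive.IsIso.comp_left_eq_zero e0.inv _).1 h)
    haveI := Groth.L22.Reg.subsingleton_iso e 0 inferInstance
    exact hs (Groth.L21.RR.hom_ext_one ((Groth.L21.RR.e0 (O' n k (j : ℤ))).symm.injective (Subsingleton.elim _ _)))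

/-- Horrocks: modules without intermediate cohomology are sums of twists. -/
theorem split {E : (CohB1.ProjSpace n k).Modules} (hE : Coh.IsCoh E)
    (hlow : n = 0 ∨ ∃ b : ℤ, ∀ t : ℤ, t ≤ b → Subsingleton (Coh.HH (CohB1.ProjSpace n k) (tw' E t) 0))
    (hmid : ∀ (t : ℤ) (i : ℕ), 0 < i → i < n → Subsingleton (Coh.HH (CohB1.ProjSpace n k) (tw' E t) i)) :
    Split E := by
  obtain ⟨M, hM⟩ := Groth.L22.Reg.exists_regular hE
  exact split_aux (M : ℤ) (fun _ => by omega) _ E hE (Nat.lt_succ_self _) hlow hmid hM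

/-- Sums of twists have no intermediate cohomology. -/
theorem subsingleton_sigma_mid {r : ℕ} (a : Fin r → ℤ) {E : (CohB1.ProjSpace n k).Modules}
    (e : E ≅ ∐ fun j => O' n k (a j)) (t : ℤ) {q : ℕ} (h : ∀ j, ¬ (q = 0 ∧ 0 ≤ a j + t) ∧ ¬ (q = n ∧ a j + t ≤ -((n : ℤ) + 1))) :
    Subsingleton (Coh.HH (CohB1.ProjSpace n k) (tw' E t) q) := by
  obtain ⟨c⟩ := Groth.L22.Reg.nonempty_tensor_sigma (n := n) (fun j => O' n k (a j)) (O' n k t)
  refine Groth.L22.Reg.subsingleton_iso (c.symm ≪≫ tensorIso e.symm (Iso.refl _)) q ?_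
  refine ProjSpace.subsingleton_sigma _ q fun j => ?_
  obtain ⟨d⟩ := Groth.L22.Reg.nonempty_O_add (n := n) (R := k) (show a j + t = a j + t from rfl)
  exact Groth.L22.Reg.subsingleton_iso d.symm q (ProjSpace.subsingleton_HH_twist n k _ _ (h j).1 (h j).2)

theorem exists_low_sigma (hn : 1 ≤ n) {r : ℕ} (a : Fin r → ℤ) {E : (CohB1.ProjSpace n k).Modules}
    (e : E ≅ ∐ fun j => O' n k (a j)) :
    ∃ b : ℤ, ∀ t : ℤ, t ≤ b → Subsingleton (Coh.HH (CohB1.ProjSpace n k) (tw' E t) 0) := by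
  refine ⟨-(1 + ∑ j, |a j|), fun t ht => subsingleton_sigma_mid a e t fun j => ⟨fun h => ?_, fun h => ?_⟩⟩
  · have h1 : |a j| ≤ ∑ i, |a i| := Finset.single_le_sum (f := fun i => |a i|) (fun i _ => abs_nonneg _) (Finset.mem_univ j)
    have := le_abs_self (a j)
    omega
  · omega

theorem iff_split (hn : 1 ≤ n) {E : (CohB1.ProjSpace n k).Modules} (hE : Coh.IsCoh E) :
    (∃ (r : ℕ) (a : Fin r → ℤ), Nonempty (E ≅ ∐ fun j => O' n k (a j))) ↔
      ((∃ b : ℤ, ∀ t : ℤ, t ≤ b → Subsingleton (Coh.HH (CohB1.ProjSpace n k) (tw' E t) 0)) ∧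
        ∀ (t : ℤ) (i : ℕ), 0 < i → i < n → Subsingleton (Coh.HH (CohB1.ProjSpace n k) (tw' E t) i)) := by
  refine ⟨fun ⟨r, a, ⟨e⟩⟩ => ⟨exists_low_sigma hn a e, fun t i h1 h2 =>
    subsingleton_sigma_mid a e t fun j => ⟨fun h => by omega, fun h => by omega⟩⟩, fun ⟨h1, h2⟩ => ?_⟩
  obtain ⟨r, a, h, -⟩ := split hE (Or.inr h1) h2
  exact ⟨r, a, h⟩

theorem len_eq_of_rank {E : (CohB1.ProjSpace n k).Modules} {r : ℕ} (hE : FlatMod.IsFinLocFreeOfRank r E) :
    len (genericPoint (CohB1.ProjSpace n k)) E = r := by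
  obtain ⟨e⟩ := Groth.L22.CurveDeg.nonempty_stalk_equiv hE (genericPoint (CohB1.ProjSpace n k))
  rw [CohSupport.len, ← e.length_eq]
  letI : Field ((CohB1.ProjSpace n k).presheaf.stalk (genericPoint (CohB1.ProjSpace n k))) :=
    inferInstanceAs (Field (CohB1.ProjSpace n k).functionField)
  rw [Module.length_eq_finrank, Module.finrank_fin_fun]

end Groth.L22.PDual
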