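import Groth.Agent.L22.PDual.ExtSheafHom
import Groth.Agent.L22.PDual.ExtDual
import Groth.Agent.L22.Reg.ClosedQuot
import Groth.Agent.L16.NegPow.Gen
import Groth.Agent.L29.DCoh.TensorPerfect
import Groth.Agent.L20.ResAmple
import Groth.Agent.L20.ResDescent

/-!
Sections of negative twists of a locally free module vanish.
-/

set_option autoImplicit false
set_option backward.isDefEq.respectTransparency false
set_option linter.style.haveILetI false
universe u

open CategoryTheory CategoryTheory.Limits CategoryTheory.Abelian AlgebraicGeometry TopologicalSpace Opposite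

noncomputable section

namespace Groth.L22.PDual

open Groth.L00.Tensor (tensorRightF tensorIso tensorComm tensorAssoc tensorFlipIso tensorUnitLeft)
open Groth.L17.ChangeRings (homMod tensorRightBiIso)
open Groth.L16
open Groth.L22.Reg (O' tw')

variable {X : Scheme.{u}}

/-- For an invertible module, `Hom(L, -)` is the twist by the inverse. -/
theorem nonempty_homMod_invertible {L L' : X.Modules} [ModSite.HasSheafHom (O := X.sheaf) L]
    (e : CohB1.tensorMod L L' ≅ Coh.structureModule X) : Nonempty (homMod L ≅ tensorRightF L') := by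
  let E := CategoryTheory.Equivalence.mk (tensorRightF L) (tensorRightF L') (invIso e).symm
    (invIso (tensorComm L' L ≪≫ e))
  exact ⟨(ModSite.sheafHomAdj (O := X.sheaf) L).rightAdjointUniq
    (E.toAdjunction.ofNatIsoLeft (tensorRightBiIso L))⟩

variable {k : Type u} [Field k] {n : ℕ}

theorem exists_low_locFree (hn : 1 ≤ n) {E : (CohB1.ProjSpace n k).Modules} (hE : FlatMod.IsFinLocFree E) :
    ∃ b : ℤ, ∀ t : ℤ, t ≤ b → Subsingleton (Coh.HH (CohB1.ProjSpace n k) (tw' E t) 0) := by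
  haveI := proper n k
  haveI := Groth.L21.RR.isNoetherian_of_proper (X := CohB1.ProjSpace n k) k
  haveI := Groth.L00.Tensor.grothendieckAbelian_modules (CohB1.ProjSpace n k)
  haveI : HasExt.{u} (CohB1.ProjSpace n k).Modules := inferInstance
  haveI := Groth.L17.Duality.hasSheafHom E
  have hdual : Coh.IsCoh (Groth.L17.Duality.dual E) :=
    Groth.L16.NegPow.isCoh_of_isFinLocFree (Groth.L20.ResDescent.isFinLocFree_dual E hE)
  have hH : Coh.IsCoh (CohB1.tensorMod (ω' n k) (Groth.L17.Duality.dual E)) :=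
    Groth.L16.CohSupport.isCoh_of_iso (tensorComm _ _)
      (Groth.L03.Euler.isCoh_tensor (ProjTwist.isInvertible_twistProjSpace n k _) hdual)
  obtain ⟨d, hd⟩ := ProjSpace.exists_vanishing n k _ hH
  refine ⟨-(d : ℤ), fun t ht => ?_⟩
  obtain ⟨j, rfl⟩ : ∃ j : ℕ, t = -(j : ℤ) := ⟨(-t).toNat, by omega⟩
  have hEj : FlatMod.IsFinLocFree (tw' E (-(j : ℤ))) :=
    Groth.L29.DC.isFinLocFree_tensor hE
      (Groth.L20.ResDescent.isFinLocFree_of_isInvertible (ProjTwist.isInvertible_twistProjSpace n k _))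
  have hc := Groth.L16.NegPow.isCoh_of_isFinLocFree hEj
  suffices hs : Subsingleton (Ext (tw' E (-(j : ℤ))) (ω' n k) n) by
    have h' := (subsingleton_ext_iff hc le_rfl).1 hs
    rwa [Nat.sub_self] at h'
  haveI : DCoh.HasSheafHom (tw' E (-(j : ℤ))) :=
    haveI := Groth.L17.Duality.hasSheafHom (tw' E (-(j : ℤ)))
    ((ModSite.sheafHomAdj (O := (CohB1.ProjSpace n k).sheaf) (tw' E (-(j : ℤ)))).ofNatIsoLeft
      ((tensorRightBiIso _).symm ≪≫ rightBiIso _)).isLeftAdjoint
  obtain ⟨e⟩ := nonempty_ext_linearEquiv (k := k) _ hEj n (ω' n k)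
  refine @Equiv.subsingleton _ _ e.toEquiv ?_
  haveI := Groth.L17.Duality.hasSheafHom (O' n k (-(j : ℤ)))
  haveI := Groth.L17.Duality.hasSheafHom (tw' E (-(j : ℤ)))
  haveI : ModSite.HasSheafHom (O := (CohB1.ProjSpace n k).sheaf) (CohB1.tensorMod E (O' n k (-(j : ℤ)))) :=
    Groth.L17.Duality.hasSheafHom _
  obtain ⟨a⟩ := Groth.L22.Reg.nonempty_O_add (n := n) (R := k) (show -(j : ℤ) + j = 0 by omega)
  obtain ⟨b⟩ := Groth.L22.Reg.nonempty_O_zero n k
  obtain ⟨c⟩ := nonempty_homMod_invertible (L := O' n k (-(j : ℤ))) (L' := O' n k (j : ℤ)) (a ≪≫ b)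
  let i : (DCoh.sheafHom (tw' E (-(j : ℤ)))).obj (ω' n k) ≅
      CohB1.tensorMod (O' n k (j : ℤ)) (CohB1.tensorMod (ω' n k) (Groth.L17.Duality.dual E)) :=
    (homIso _).app _ ≪≫ (Groth.L17.Duality.homTensorIso (O' n k (-(j : ℤ))) E).symm.app _ ≪≫
      c.app _ ≪≫ tensorComm _ _ ≪≫ tensorIso (Iso.refl _) ((Groth.L17.Duality.tensorDualIso E hE).app (ω' n k)).symm
  exact Groth.L22.Reg.subsingleton_iso i.symm n (hd j (by omega) n (by omega))

end Groth.L22.PDual
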