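import Groth.Agent.L22.PDual.Asym
import Groth.Agent.L29.Dual.RegularDuality
import Groth.Agent.L04.LC.Depth
import Groth.Agent.L04.LC.Vanish
import Groth.Agent.L04.Matlis
import Groth.Agent.L21.Smooth.Scheme
import Groth.Agent.L16.ProjSpace.Dim
import Groth.Agent.L06.DiffCotBase
import Groth.Agent.L15.Ref.FreeLocus
import Groth.Agent.L18.LocFreeTilde
import Groth.Agent.L22.Inter.Fga

/-!
The criterion of Enriques–Severi–Zariski–Serre in terms of local cohomology and depth at closed points.
-/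

set_option autoImplicit false
set_option backward.isDefEq.respectTransparency false
set_option linter.style.haveILetI false
universe u

open CategoryTheory CategoryTheory.Limits CategoryTheory.Abelian AlgebraicGeometry TopologicalSpace Opposite
open IsLocalRing

noncomputable section

namespace Groth.L22.PDual

open Groth.L22.Reg (O' tw')

variable {k : Type u} [Field k] {n : ℕ}

/-- The local rings of `P^n` are regular. -/
theorem regular_stalk (x : CohB1.ProjSpace n k) :
    IsRegularLocalRing ((CohB1.ProjSpace n k).presheaf.stalk x) :=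
  Groth.L21.Smooth.regular_stalk (CohB1.ProjSpace.toSpec n k) x

/-- The local rings at closed points of `P^n` have dimension `n`. -/
theorem dim_stalk {x : CohB1.ProjSpace n k} (hx : IsClosed ({x} : Set (CohB1.ProjSpace n k))) :
    ringKrullDim ((CohB1.ProjSpace n k).presheaf.stalk x) = n := by
  obtain ⟨i, hi⟩ := Groth.L16.ProjSpace.exists_mem_basicOpen_X n k x
  rw [← Groth.L16.ProjSpace.opensRange_chart] at hi
  obtain ⟨z, rfl⟩ := hi
  let f := Groth.L16.ProjSpace.chart n k i
  let R := MvPolynomial (Groth.L16.ProjSpace.ChartVar n i) k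
  have hz : IsClosed ({z} : Set _) := by
    have : ({z} : Set _) = f ⁻¹' {f z} := Set.ext fun w =>
      ⟨fun h => congrArg _ h, fun h => f.isOpenEmbedding.injective h⟩
    rw [this]
    exact hx.preimage f.continuous
  haveI hm : z.asIdeal.IsMaximal := (PrimeSpectrum.isClosed_singleton_iff_isMaximal z).mp hz
  rw [ringKrullDim_eq_of_ringEquiv ((asIso (f.stalkMap z)) ≪≫
    Spec.stalkIso (CommRingCat.of R) z).commRingCatIsoToRingEquiv]
  rw [IsLocalization.AtPrime.ringKrullDim_eq_height z.asIdeal]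
  obtain ⟨e⟩ : Nonempty (R ≃+* MvPolynomial (Fin n) k) := by
    refine ⟨(MvPolynomial.renameEquiv k (Finite.equivFinOfCardEq ?_)).toRingEquiv⟩
    exact Groth.L16.ProjSpace.natCard_chartVar n i
  haveI : (z.asIdeal.map e).IsMaximal := Ideal.map_isMaximal_of_equiv e
  rw [← e.height_map z.asIdeal, Groth.L06.DiffCot.height_mvPolynomial k n]
  rfl

theorem finite_stalk_of_isCoh {F : (CohB1.ProjSpace n k).Modules} (hF : Coh.IsCoh F) (x : CohB1.ProjSpace n k) :
    Module.Finite ((CohB1.ProjSpace n k).presheaf.stalk x) (F.presheaf.stalk x) :=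
  haveI := proper n k
  haveI := Groth.L21.RR.isNoetherian_of_proper (X := CohB1.ProjSpace n k) k
  Groth.L18.LFP.finite_stalk F (Groth.L15.Ref.isFP_of_isCoh hF) x

/-- Local cohomology vanishes iff the complementary `Ext` into the ring does. -/
theorem subsingleton_H_iff {A : Type u} [CommRing A] [IsRegularLocalRing A] {r : ℕ} (hr : ringKrullDim A = r)
    (M : Type u) [AddCommGroup M] [Module A M] [Module.Finite A M] {i : ℕ} (hi : i ≤ r) :
    Subsingleton (LocCoh.H (maximalIdeal A) i M) ↔
      Subsingleton (CategoryTheory.Abelian.Ext (ModuleCat.of A M) (ModuleCat.of A A) (r - i)) := by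
  obtain ⟨E, _, _, f, hf⟩ := Groth.Agent.S0299.result A (ResidueField A)
  obtain ⟨e⟩ := Groth.L29.LocDual.nonempty_H_equiv_regular r hr f hf M i hi
  let e' := (Groth.L04.LC.extIso A (r - i) (ModuleCat.of A M) (ModuleCat.of A A)).toLinearEquiv
  constructor
  · intro h
    haveI := e.symm.toEquiv.subsingleton
    haveI : Subsingleton (((_root_.Ext A (ModuleCat.{u} A) (r - i)).obj (op (ModuleCat.of A M))).obj
        (ModuleCat.of A A)) := by
      refine subsingleton_of_forall_eq 0 fun x => by_contra fun hx => ?_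
      obtain ⟨φ, hφ⟩ := Groth.L04.exists_hom_ne_zero hf hx
      exact hφ (by rw [Subsingleton.elim φ 0]; rfl)
    exact e'.symm.toEquiv.subsingleton
  · intro h
    haveI := e'.toEquiv.subsingleton
    refine @Equiv.subsingleton _ _ e.toEquiv ⟨fun a b => LinearMap.ext fun x => ?_⟩
    rw [Subsingleton.elim x 0, map_zero, map_zero]

theorem vanish_iff_localCohomology {F : (CohB1.ProjSpace n k).Modules} (hF : Coh.IsCoh F) (i : ℕ) :
    (∃ m₀ : ℤ, ∀ m : ℤ, m₀ ≤ m → Subsingleton (Coh.HH (CohB1.ProjSpace n k) (tw' F (-m)) i)) ↔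
      ∀ x : CohB1.ProjSpace n k, IsClosed ({x} : Set (CohB1.ProjSpace n k)) →
        Subsingleton (LocCoh.H (maximalIdeal ((CohB1.ProjSpace n k).presheaf.stalk x)) i (F.presheaf.stalk x)) := by
  rcases le_or_gt i n with hi | hi
  · obtain ⟨j, hij⟩ : ∃ j, i + j = n := ⟨n - i, by omega⟩
    rw [cohomology_vanish_iff meets_closed hF hij]
    refine forall₂_congr fun x hx => ?_
    haveI := regular_stalk x
    haveI := finite_stalk_of_isCoh hF x
    rw [subsingleton_H_iff (dim_stalk hx) (F.presheaf.stalk x) hi, show n - i = j by omega]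
  · refine iff_of_true ⟨0, fun m _ => ?_⟩ fun x hx => ?_
    · haveI := proper n k
      haveI := Groth.L21.RR.isNoetherian_of_proper (X := CohB1.ProjSpace n k) k
      exact Groth.L22.Inter.subsingleton_HH_of_dim
        (Groth.L16.ProjSpace.topologicalKrullDim_eq_of_field n k).le _ hi
    · haveI := regular_stalk x
      refine Groth.L04.LC.subsingleton_H_of_supportDim_lt _ _ _ (lt_of_le_of_lt
        (Module.supportDim_le_ringKrullDim _ _) ?_)
      rw [dim_stalk hx]
      exact_mod_cast hi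

theorem vanish_below_iff_depth {F : (CohB1.ProjSpace n k).Modules} (hF : Coh.IsCoh F) (p : ℕ) :
    (∃ m₀ : ℤ, ∀ m : ℤ, m₀ ≤ m → ∀ i : ℕ, i ≤ p →
        Subsingleton (Coh.HH (CohB1.ProjSpace n k) (tw' F (-m)) i)) ↔
      ∀ x : CohB1.ProjSpace n k, IsClosed ({x} : Set (CohB1.ProjSpace n k)) →
        (p : ℕ∞) < LocCoh.depth ((CohB1.ProjSpace n k).presheaf.stalk x) (F.presheaf.stalk x) := by
  have key : (∃ m₀ : ℤ, ∀ m : ℤ, m₀ ≤ m → ∀ i : ℕ, i ≤ p →
      Subsingleton (Coh.HH (CohB1.ProjSpace n k) (tw' F (-m)) i)) ↔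
      ∀ i : ℕ, i ≤ p → ∃ m₀ : ℤ, ∀ m : ℤ, m₀ ≤ m →
        Subsingleton (Coh.HH (CohB1.ProjSpace n k) (tw' F (-m)) i) := by
    refine ⟨fun ⟨m₀, h⟩ i hi => ⟨m₀, fun m hm => h m hm i hi⟩, fun h => ?_⟩
    have h' : ∀ i : Fin (p + 1), ∃ m₀ : ℤ, ∀ m : ℤ, m₀ ≤ m →
        Subsingleton (Coh.HH (CohB1.ProjSpace n k) (tw' F (-m)) i) := fun i => h i (by omega)
    choose m₀ hm₀ using h'
    exact ⟨Finset.univ.sup' Finset.univ_nonempty m₀, fun m hm i hi =>
      hm₀ ⟨i, by omega⟩ m ((Finset.le_sup' m₀ (Finset.mem_univ _)).trans hm)⟩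
  rw [key]
  simp only [vanish_iff_localCohomology hF]
  refine ⟨fun h x hx => ?_, fun h i hi x hx => ?_⟩
  · haveI := regular_stalk x
    haveI := finite_stalk_of_isCoh hF x
    refine lt_of_lt_of_le (by exact_mod_cast Nat.lt_succ_self p)
      ((Groth.L04.LC.le_idealDepth_iff_H _ _ (p + 1)).2 fun i hi => h i (by omega) x hx)
  · haveI := regular_stalk x
    haveI := finite_stalk_of_isCoh hF x
    exact (Groth.L04.LC.le_idealDepth_iff_H _ _ (p + 1)).1 (by
      rw [Nat.cast_succ]; exact Order.add_one_le_of_lt (h x hx)) i (by omega)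

end Groth.L22.PDual
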