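import Groth.Agent.L22.PDual.Hn
import Groth.Agent.L22.SyzTilde.Maps
import Groth.Agent.L16.ProjSpace.Dim

/-!
The trace pairing on projective space and its perfection for the twisting sheaves.
-/

set_option autoImplicit false
set_option backward.isDefEq.respectTransparency false
set_option linter.style.haveILetI false
universe u

open CategoryTheory CategoryTheory.Limits AlgebraicGeometry TopologicalSpace Opposite MvPolynomial

noncomputable section

namespace Groth.L22.PDual

open Groth.L16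
open Groth.L22.Reg (O')
open Groth.L16.CohLinear (hmap hmap_comp hmap_id overLin tm)

variable {k : Type u} [Field k] {n : ℕ}

/-- `O(-n-1)`. -/
abbrev ω' (n : ℕ) (k : Type u) [Field k] : (CohB1.ProjSpace n k).Modules := Twist.twistProjSpace n k (-((n : ℤ) + 1))

theorem proper (n : ℕ) (k : Type u) [Field k] :
    IsProper (CohB1.ProjSpace n k ↘ Spec (CommRingCat.of k)) :=
  Groth.L22.Reg.isProper_over_proj (k := k) (n := n)

theorem finite_HH {F : (CohB1.ProjSpace n k).Modules} (hF : Coh.IsCoh F) (i : ℕ) :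
    Module.Finite k (Coh.HH (CohB1.ProjSpace n k) F i) := ProjSpace.finite_HH_of_isCoh (n := n) (R := k) F hF i

theorem isCoh_O (d : ℤ) : Coh.IsCoh (O' n k d) :=
  Groth.L16.ProperFinite.isCoh_of_isInvertible (ProjTwist.isInvertible_twistProjSpace n k d)

theorem finrank_top {d : ℤ} {j : ℕ} (hd : d = -((n : ℤ) + 1 + j)) :
    Module.finrank k (Coh.HH (CohB1.ProjSpace n k) (O' n k d) n) = Nat.choose (j + n) n := by
  subst hd
  obtain ⟨e⟩ := ProjSpace.nonempty_HH_top_linearEquiv n j k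
  exact e.finrank_eq.trans (Groth.L03.PlanePoints.finrank_homogeneous n j).2

theorem exists_trace : ∃ t : Coh.HH (CohB1.ProjSpace n k) (ω' n k) n →ₗ[k] k, Function.Bijective t := by
  haveI := finite_HH (isCoh_O (n := n) (k := k) (-((n : ℤ) + 1))) n
  have h : Module.finrank k (Coh.HH (CohB1.ProjSpace n k) (ω' n k) n) = Module.finrank k k := by
    rw [finrank_top (d := -((n : ℤ) + 1)) (j := 0) (by simp), Module.finrank_self]
    simp
  exact ⟨(LinearEquiv.ofFinrankEq _ _ h).toLinearMap, (LinearEquiv.ofFinrankEq _ _ h).bijective⟩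

/-- The trace. -/
def tr (n : ℕ) (k : Type u) [Field k] : Coh.HH (CohB1.ProjSpace n k) (ω' n k) n →ₗ[k] k := exists_trace.choose

theorem bijective_tr : Function.Bijective (tr n k) := exists_trace.choose_spec

/-- The trace pairing. -/
def B (F : (CohB1.ProjSpace n k).Modules) :
    (F ⟶ ω' n k) →+ Module.Dual k (Coh.HH (CohB1.ProjSpace n k) F n) :=
  AddMonoidHom.mk' (fun φ => (tr n k).comp (overLin k (hmap φ n))) fun φ ψ => LinearMap.ext fun x => by
    show tr n k (Sheaf.H.map (tm (φ + ψ)) n x) =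
      tr n k (Sheaf.H.map (tm φ) n x) + tr n k (Sheaf.H.map (tm ψ) n x)
    rw [show tm (φ + ψ) = tm φ + tm ψ from Functor.map_add _, Sheaf.H.map_add_apply, map_add]

theorem B_apply {F : (CohB1.ProjSpace n k).Modules} (φ : F ⟶ ω' n k)
    (x : Coh.HH (CohB1.ProjSpace n k) F n) : B F φ x = tr n k (hmap φ n x) := rfl

theorem B_comp {F G : (CohB1.ProjSpace n k).Modules} (a : F ⟶ G) (φ : G ⟶ ω' n k) :
    B F (a ≫ φ) = (B G φ).comp (overLin k (hmap a n)) := LinearMap.ext fun x => by
  rw [B_apply, hmap_comp]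
  rfl

theorem injective_B_O (a : ℤ) : Function.Injective (B (O' n k a)) := by
  rw [injective_iff_map_eq_zero]
  intro φ hφ
  by_contra h0
  haveI := proper n k
  have hs := surjective_hmap_top k (ProjSpace.topologicalKrullDim_eq_of_field n k)
    (ProjTwist.isInvertible_twistProjSpace n k a) (ProjTwist.isInvertible_twistProjSpace n k _) h0
  obtain ⟨y, hy⟩ := bijective_tr.2 (1 : k)
  obtain ⟨x, rfl⟩ := hs y
  have := LinearMap.congr_fun hφ x
  rw [B_apply, hy] at this
  exact one_ne_zero this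

theorem toLoc_ne_zero {p : SyzTilde.S n k} (hp : p ≠ 0) (x : ProjectiveSpectrum (CohB1.polyGrading n k)) :
    SyzTilde.toLoc x p ≠ 0 := by
  rw [SyzTilde.toLoc, Ne, ← Localization.mk_zero ⟨1, Groth.L16.ProjTwist.one_notMem _ x⟩,
    Localization.mk_eq_mk_iff, Localization.r_iff_exists]
  rintro ⟨⟨c, hc⟩, h⟩
  simp only [mul_zero, one_mul] at h
  rcases mul_eq_zero.1 h with h | h
  · exact hc (h ▸ Submodule.zero_mem _)
  · exact hp h

theorem mulHom_ne_zero {p : SyzTilde.S n k} {δ a b : ℤ} (hp : p ∈ SyzTilde.G n k δ) (h : a + δ = b)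
    (hp0 : p ≠ 0) : SyzTilde.mulHom hp h ≠ 0 := by
  intro h0
  obtain ⟨i, hi⟩ := ProjSpace.exists_mem_basicOpen_X n k (genericPoint (CohB1.ProjSpace n k))
  let x : ProjectiveSpectrum (CohB1.polyGrading n k) := genericPoint (CohB1.ProjSpace n k)
  have hxi : (MvPolynomial.X i : MvPolynomial (Fin (n + 1)) k) ∉ x.asHomogeneousIdeal :=
    (ProjectiveSpectrum.mem_basicOpen _ _ _).1 hi
  rcases Int.eq_nat_or_neg a with ⟨m, rfl | rfl⟩
  · obtain ⟨z, hz⟩ := SyzTilde.exists_evalT_eq (n := (m : ℤ)) (x := x) (i := m) (j := 0)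
      ⟨(MvPolynomial.X i) ^ m, by simpa using SetLike.pow_mem_graded m (ProjSpace.X_mem n k i)⟩
      ⟨1, SetLike.GradedOne.one_mem⟩ (Groth.L16.ProjTwist.one_notMem _ x) (by simp)
    have := SyzTilde.evalT_mulHom hp h x z
    rw [h0, Functor.map_zero] at this
    refine toLoc_ne_zero hp0 x ?_
    rcases mul_eq_zero.1 (this.symm.trans (map_zero _)) with h1 | h1
    · exact h1
    · rw [hz] at h1
      exact absurd h1 (toLoc_ne_zero (pow_ne_zero m (X_ne_zero i)) x)
  · obtain ⟨z, hz⟩ := SyzTilde.exists_evalT_eq (n := -(m : ℤ)) (x := x) (i := 0) (j := m)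
      ⟨1, SetLike.GradedOne.one_mem⟩
      ⟨(MvPolynomial.X i) ^ m, by simpa using SetLike.pow_mem_graded m (ProjSpace.X_mem n k i)⟩
      (fun hm => hxi (x.isPrime.mem_of_pow_mem m hm)) (by simp)
    have := SyzTilde.evalT_mulHom hp h x z
    rw [h0, Functor.map_zero] at this
    have h2 := this.symm.trans (map_zero _)
    rw [hz, SyzTilde.toLoc, Localization.mk_mul,
      ← Localization.mk_zero ⟨1, Groth.L16.ProjTwist.one_notMem _ x⟩,
      Localization.mk_eq_mk_iff, Localization.r_iff_exists] at h2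
    obtain ⟨⟨c, hc⟩, h3⟩ := h2
    simp only [mul_zero, mul_one, Submonoid.coe_mul, one_mul] at h3
    rcases mul_eq_zero.1 h3 with h4 | h4
    · exact hc (h4 ▸ Submodule.zero_mem _)
    · exact hp0 h4

theorem tm_mulHom_smul {p : SyzTilde.S n k} {δ a b : ℤ} (hp : p ∈ SyzTilde.G n k δ) (h : a + δ = b) (c : k)
    (hcp : c • p ∈ SyzTilde.G n k δ) :
    tm (SyzTilde.mulHom hcp h) = tm (SyzTilde.mulHom hp h) ≫
      Coh.smulAb (Twist.twist (CohB1.polyGrading n k) b) (Coh.toGlobal (CohB1.ProjSpace.toSpec n k) c) := by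
  ext U f
  refine Subtype.ext (funext fun x => Subtype.ext ?_)
  show SyzTilde.toLoc x.1 (c • p) * (f.1 x).1 = _
  refine Eq.trans ?_ (Twist.coe_smul_val _ _ _ _).symm
  erw [ProjSpace.toGlobal_apply_val (n := n) c ⟨x.1, trivial⟩]
  show _ = _ * (SyzTilde.toLoc x.1 p * (f.1 x).1)
  rw [← mul_assoc, Localization.mk_mul, MvPolynomial.smul_eq_C_mul]
  congr 1
  rw [SyzTilde.toLoc]
  congr 1
  exact Subtype.ext (one_mul _).symm

theorem tm_mulHom_add {p q : SyzTilde.S n k} {δ a b : ℤ} (hp : p ∈ SyzTilde.G n k δ) (hq : q ∈ SyzTilde.G n k δ)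
    (h : a + δ = b) :
    SyzTilde.mulHom (add_mem hp hq) h = SyzTilde.mulHom hp h + SyzTilde.mulHom hq h := by
  refine Scheme.Modules.hom_ext _ _ fun U => ?_
  ext f
  refine Subtype.ext (funext fun x => Subtype.ext ?_)
  show SyzTilde.toLoc x.1 (p + q) * (f.1 x).1 =
    SyzTilde.toLoc x.1 p * (f.1 x).1 + SyzTilde.toLoc x.1 q * (f.1 x).1
  rw [← add_mul, SyzTilde.toLoc, SyzTilde.toLoc, SyzTilde.toLoc, Localization.add_mk_self]

theorem surjective_B_O_neg (a : ℤ) (hn : 0 < n ∨ a ≤ -((n : ℤ) + 1)) :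
    Function.Surjective (B (O' n k a)) := by
  intro ψ
  by_cases ha : -(n : ℤ) ≤ a
  · haveI : Subsingleton (Coh.HH (CohB1.ProjSpace n k) (O' n k a) n) :=
      ProjSpace.subsingleton_HH_twist n k a n (fun h => by have := h.1; omega)
        (fun h => by have := h.2; omega)
    exact ⟨0, LinearMap.ext fun x => by rw [Subsingleton.elim x 0, map_zero, map_zero]⟩
  obtain ⟨j, hj⟩ : ∃ j : ℕ, a = -((n : ℤ) + 1 + j) := ⟨(-(a + n + 1)).toNat, by omega⟩
  let F := homogeneousSubmodule (Fin (n + 1)) k j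
  have hmem : ∀ p : F, (p.1 : SyzTilde.S n k) ∈ SyzTilde.G n k (j : ℤ) := fun p => SyzTilde.mem_G_cast.2 p.2
  have hsum : a + (j : ℤ) = -((n : ℤ) + 1) := by omega
  let Γ : F →ₗ[k] Module.Dual k (Coh.HH (CohB1.ProjSpace n k) (O' n k a) n) :=
    { toFun := fun p => B (O' n k a) (SyzTilde.mulHom (hmem p) hsum)
      map_add' := fun p q => by
        rw [← map_add]
        exact congrArg _ (tm_mulHom_add (hmem p) (hmem q) hsum)
      map_smul' := fun c p => LinearMap.ext fun x => by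
        show tr n k (Sheaf.H.map (tm (SyzTilde.mulHom (hmem (c • p)) hsum)) n x) =
          c • tr n k (Sheaf.H.map (tm (SyzTilde.mulHom (hmem p) hsum)) n x)
        rw [← map_smul, show tm (SyzTilde.mulHom (hmem (c • p)) hsum) = _ from
          tm_mulHom_smul (hmem p) hsum c (hmem (c • p)), Sheaf.H.map_comp_apply]
        rfl }
  have hinj : Function.Injective Γ := by
    rw [injective_iff_map_eq_zero]
    intro p hp
    by_contra hp0
    exact mulHom_ne_zero (hmem p) hsum (fun h => hp0 (Subtype.ext h))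
      ((injective_B_O a) (hp.trans (map_zero _).symm))
  haveI := finite_HH (isCoh_O (n := n) (k := k) a) n
  haveI : Module.Finite k F := (Groth.L03.PlanePoints.finrank_homogeneous n j).1
  have hd : Module.finrank k F = Module.finrank k (Module.Dual k (Coh.HH (CohB1.ProjSpace n k) (O' n k a) n)) := by
    rw [Subspace.dual_finrank_eq, finrank_top hj]
    exact (Groth.L03.PlanePoints.finrank_homogeneous n j).2
  obtain ⟨p, hp⟩ := (LinearMap.injective_iff_surjective_of_finrank_eq_finrank hd).1 hinj ψ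
  exact ⟨_, hp⟩

theorem surjective_B_O (a : ℤ) : Function.Surjective (B (O' n k a)) := by
  by_cases hn : 0 < n
  · exact surjective_B_O_neg a (Or.inl hn)
  obtain rfl : n = 0 := by omega
  obtain ⟨m, hm⟩ : ∃ m : ℕ, a - m ≤ -1 := ⟨(a + 1).toNat, by omega⟩
  let ι : O' 0 k (a - m) ⟶ O' 0 k a := SyzTilde.mulHom (p := (MvPolynomial.X 0) ^ m) (δ := (m : ℤ))
    (SyzTilde.mem_G_cast.2 (by simpa using SetLike.pow_mem_graded m (ProjSpace.X_mem 0 k 0))) (by omega)
  have hι : ι ≠ 0 := mulHom_ne_zero _ _ (pow_ne_zero m (X_ne_zero 0))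
  haveI := proper 0 k
  haveI := Groth.L21.RR.isNoetherian_of_proper (X := CohB1.ProjSpace 0 k) k
  have hM := ProjTwist.isInvertible_twistProjSpace 0 k (a - m)
  have hN := ProjTwist.isInvertible_twistProjSpace 0 k a
  haveI : Mono ι := mono_of_ne_zero hM hN hι
  obtain ⟨hQ, hη⟩ := Groth.L22.Big.cokernel_facts k hM hN ι
  have hz : IsZero (cokernel ι) := isZero_of_generic_notMem
    (ProjSpace.topologicalKrullDim_eq_of_field 0 k) hQ hη
  haveI : Epi ι := Preadditive.epi_of_isZero_cokernel ι hz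
  haveI : IsIso ι := isIso_of_mono_of_epi ι
  intro ψ
  obtain ⟨φ, hφ⟩ := surjective_B_O_neg (a - m) (Or.inr (by omega)) (ψ.comp (overLin k (hmap ι 0)))
  refine ⟨inv ι ≫ φ, ?_⟩
  rw [B_comp, hφ]
  refine LinearMap.ext fun x => ?_
  show ψ (hmap ι 0 (hmap (inv ι) 0 x)) = ψ x
  rw [← hmap_comp, IsIso.inv_hom_id, hmap_id]

end Groth.L22.PDual
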