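import Groth.Agent.L18.RelTilde.ComparePull
import Groth.Agent.L18.GradedGen
import Groth.Agent.L18.ProjMap
import Groth.Agent.L22.Reg.Pn
import Groth.Prelude.Def_GrTwist

/-!
`Proj` of a standard graded algebra in projective space, with the twisting sheaves.
-/

set_option autoImplicit false
set_option backward.isDefEq.respectTransparency false
set_option linter.style.haveILetI false
universe u

open CategoryTheory CategoryTheory.Limits AlgebraicGeometry TopologicalSpace Opposite MvPolynomial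
open scoped HomogeneousIdeal
open Groth.L18

noncomputable section

namespace Groth.L22.PDual

section

variable {A σ : Type u} [CommRing A] [SetLike σ A] [AddSubgroupClass σ A] {𝒢 : ℕ → σ} [GradedRing 𝒢]
  {B σ' : Type u} [CommRing B] [SetLike σ' B] [AddSubgroupClass σ' B] {ℋ : ℕ → σ'} [GradedRing ℋ]

/-- `ψ^* O(n) = O(n)` when degree one covers. -/
theorem nonempty_pullback_twist (ψ : 𝒢 →+*ᵍ ℋ) (hψ : ℋ₊ ≤ (𝒢₊).map ψ)
    (hcov : ∀ x : ProjectiveSpectrum 𝒢, ∃ t ∈ 𝒢 1, t ∉ x.asHomogeneousIdeal) (n : ℤ) :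
    Nonempty ((Scheme.Modules.pullback (Proj.map ψ hψ)).obj (GrTwist.twist 𝒢 n) ≅ GrTwist.twist ℋ n) := by
  haveI := RelTilde.isIso_adjunct_of_frames (Proj.map ψ hψ) (GrTwist.comap ψ hψ n) fun x => ?_
  · exact ⟨asIso (((Scheme.Modules.pullbackPushforwardAdjunction (Proj.map ψ hψ)).homEquiv _ _).symm
      (GrTwist.comap ψ hψ n))⟩
  obtain ⟨t, ht, hty⟩ := hcov (ProjectiveSpectrum.comap ψ hψ x)
  let V : (Proj 𝒢).Opens := Proj.basicOpen 𝒢 t
  have hVt : ∀ z : V, ∀ N : ℕ, t ^ N ∉ z.1.asHomogeneousIdeal := fun z N =>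
    GrM.notMem_pow ((Proj.mem_basicOpen _ _ _).1 z.2) N
  let a : 𝒢 (n.toNat • 1) := ⟨t ^ n.toNat, SetLike.pow_mem_graded _ ht⟩
  let b : 𝒢 ((-n).toNat • 1) := ⟨t ^ (-n).toNat, SetLike.pow_mem_graded _ ht⟩
  have hN : ((n.toNat • 1 : ℕ) : ℤ) = ((-n).toNat • 1 : ℕ) + n := by
    simp only [smul_eq_mul, mul_one]; omega
  refine ⟨V, GrM.genT a b hN V fun z => hVt z _, (Proj.mem_basicOpen _ _ _).2 hty,
    GrM.isFrame_genT _ _ _ _ (fun z => hVt z _) (fun z => hVt z _), ?_⟩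
  have key : (show GrTwist.sectN (𝒜 := ℋ) n (op (Proj.map ψ hψ ⁻¹ᵁ V)) from
      (GrTwist.comap ψ hψ n).app V (GrM.genT a b hN V fun z => hVt z _)) =
      GrM.genT (⟨ψ a, ψ.map_mem a.2⟩ : ℋ _) (⟨ψ b, ψ.map_mem b.2⟩ : ℋ _) hN (Proj.map ψ hψ ⁻¹ᵁ V)
        (fun y => hVt ⟨ProjectiveSpectrum.comap ψ hψ y.1, y.2⟩ _) :=
    RelTilde.comapApp_genT ψ hψ a b hN (fun z => hVt z _) Set.Subset.rfl
  refine (congrArg (Frame.IsFrame (GrTwist.twist ℋ n) (Proj.map ψ hψ ⁻¹ᵁ V)) key).mpr ?_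
  exact GrM.isFrame_genT _ _ _ _ (fun y => hVt ⟨ProjectiveSpectrum.comap ψ hψ y.1, y.2⟩ _) (fun y => hVt ⟨ProjectiveSpectrum.comap ψ hψ y.1, y.2⟩ _)

end

variable {K : Type u} [Field K] {A : Type u} [CommRing A] [Algebra K A] [IsNoetherianRing A]
  (𝒜 : ℕ → Submodule K A) [GradedAlgebra 𝒜]

theorem exists_graded_surjection (h0 : ∀ a : A, a ∈ 𝒜 0 ↔ a ∈ Set.range (algebraMap K A))
    (hgen : (HomogeneousIdeal.irrelevant 𝒜).toIdeal = Ideal.span (𝒜 1 : Set A)) :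
    ∃ (N : ℕ) (ψ : CohB1.polyGrading N K →+*ᵍ 𝒜), Function.Surjective ψ := by
  classical
  obtain ⟨s, hs, hspan⟩ := Submodule.fg_span_iff_fg_span_finset_subset (R := A) (𝒜 1 : Set A) |>.1
    (IsNoetherian.noetherian _)
  let v : Fin (s.card + 1) → A := Fin.cons 0 fun j => (s.equivFin.symm j).1
  have hv : ∀ j, v j ∈ 𝒜 1 := fun j => Fin.cases (zero_mem (𝒜 1)) (fun i => hs (s.equivFin.symm i).2) j
  let φ : MvPolynomial (Fin (s.card + 1)) K →ₐ[K] A := aeval v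
  have hmon : ∀ d : Fin (s.card + 1) →₀ ℕ, φ (monomial d 1) ∈ 𝒜 d.degree := fun d => by
    rw [show φ (monomial d 1) = d.prod fun j m => v j ^ m by simp [φ, aeval_monomial], Finsupp.degree_apply]
    exact SetLike.prod_mem_graded 𝒜 _ (fun j => v j ^ d j) fun j _ => by
      simpa using SetLike.pow_mem_graded (d j) (hv j)
  have hmem : ∀ {d : ℕ} {p : MvPolynomial (Fin (s.card + 1)) K}, p ∈ CohB1.polyGrading s.card K d → φ p ∈ 𝒜 d := by
    intro d p hp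
    rw [p.as_sum, map_sum]
    refine sum_mem fun e he => ?_
    have hd : e.degree = d := by
      have := ((MvPolynomial.mem_homogeneousSubmodule _ _).1 hp) (MvPolynomial.mem_support_iff.1 he)
      rw [Finsupp.degree_eq_weight_one]
      exact this
    rw [show monomial e (coeff e p) = coeff e p • monomial e (1 : K) by rw [smul_monomial, smul_eq_mul, mul_one],
      map_smul]
    exact Submodule.smul_mem _ _ (hd ▸ hmon e)
  refine ⟨s.card, { φ.toRingHom with map_mem := fun hp => hmem hp }, fun a => ?_⟩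
  have hadj : Algebra.adjoin (𝒜 0) (s : Set A) = ⊤ :=
    (Groth.L18.irrelevant_eq_span_iff 𝒜 (s : Set A) fun e he => ⟨1, one_pos, hs he⟩).1
      (hgen.trans hspan)
  suffices h : a ∈ φ.range from h
  refine Algebra.adjoin_induction (p := fun x _ => x ∈ φ.range) ?_ ?_ (fun _ _ _ _ => add_mem)
    (fun _ _ _ _ => mul_mem) (hadj.ge (Algebra.mem_top (x := a)))
  · intro x hx
    exact ⟨X (Fin.succ (s.equivFin ⟨x, hx⟩)), by simp [φ, v]⟩
  · intro r
    obtain ⟨c, hc⟩ := (h0 r.1).1 r.2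
    exact ⟨MvPolynomial.C c, by rw [AlgHom.toRingHom_eq_coe, RingHom.coe_coe, aeval_C]; exact hc⟩

theorem exists_projEmbed (h0 : ∀ a : A, a ∈ 𝒜 0 ↔ a ∈ Set.range (algebraMap K A))
    (hgen : (HomogeneousIdeal.irrelevant 𝒜).toIdeal = Ideal.span (𝒜 1 : Set A)) :
    ∃ (N : ℕ) (i : Proj 𝒜 ⟶ CohB1.ProjSpace N K), IsClosedImmersion i ∧
      ∀ m : ℤ, Nonempty ((Scheme.Modules.pullback i).obj (Groth.L22.Reg.O' N K m) ≅ GrTwist.twist 𝒜 m) := by
  obtain ⟨N, ψ, hsurj⟩ := exists_graded_surjection 𝒜 h0 hgen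
  have hψ : 𝒜₊ ≤ ((CohB1.polyGrading N K)₊).map ψ := by
    show (HomogeneousIdeal.irrelevant 𝒜).toIdeal ≤ _
    rw [hgen, Ideal.span_le]
    intro y hy
    obtain ⟨x, hx, rfl⟩ := Groth.L18.exists_degree_preimage_of_surjective ψ hsurj 1 hy
    exact Ideal.mem_map_of_mem _ (HomogeneousIdeal.mem_irrelevant_of_mem _ one_pos hx)
  refine ⟨N, Proj.map ψ hψ, Groth.L18.map_isClosedImmersion ψ hψ hsurj, fun m => ?_⟩
  refine nonempty_pullback_twist ψ hψ (fun x => ?_) m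
  obtain ⟨j, hj⟩ := Groth.L16.ProjSpace.exists_mem_basicOpen_X N K x
  exact ⟨_, Groth.L16.ProjSpace.X_mem N K j, (Proj.mem_basicOpen _ _ _).1 hj⟩

end Groth.L22.PDual
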