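import Groth.Agent.L22.PDual.Pairing

/-!
The trace pairing is perfect for every coherent module.
-/

set_option autoImplicit false
set_option backward.isDefEq.respectTransparency false
set_option linter.style.haveILetI false
universe u

open CategoryTheory CategoryTheory.Limits AlgebraicGeometry TopologicalSpace Opposite

noncomputable section

namespace Groth.L22.PDual

open Groth.L16
open Groth.L22.Reg (O')
open Groth.L16.CohLinear (hmap hmap_comp hmap_id overLin tm)

variable {k : Type u} [Field k] {n : ℕ}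

/-- Coherent modules are quotients of sums of very negative twists. -/
theorem exists_epi_twists {M : (CohB1.ProjSpace n k).Modules} (hM : Coh.IsCoh M) (q₀ : ℕ) :
    ∃ (q : ℕ) (r : ℕ) (p : (∐ fun _ : Fin r => O' n k (-(q : ℤ))) ⟶ M), q₀ ≤ q ∧ Epi p := by
  obtain ⟨d, hd, ι, hι, f, hf⟩ := ProjTwist.exists_cover_common_degree (CohB1.polyGrading n k)
  haveI := hι
  haveI := hM.1
  obtain ⟨n₀, h⟩ := @ProjTwist.exists_epi_neg_twists _ _ _ _ _ (CohB1.polyGrading n k) _ d _ f hι hd hf M hM.1 hM.2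
  obtain ⟨r, p, hp⟩ := h (n₀ + q₀) (Nat.le_add_right _ _)
  exact ⟨(n₀ + q₀) * d, r, p, (Nat.le_add_left q₀ n₀).trans (Nat.le_mul_of_pos_right _ hd), hp⟩

theorem isCoh_sum (r : ℕ) (d : ℤ) : Coh.IsCoh (∐ fun _ : Fin r => O' n k d) :=
  ProjSpace.isCoh_sigma_twist n k fun _ : Fin r => d

theorem hmap_sum {M N : (CohB1.ProjSpace n k).Modules} {ι : Type} (s : Finset ι) (f : ι → (M ⟶ N)) (q : ℕ)
    (x : Coh.HH (CohB1.ProjSpace n k) M q) : hmap (∑ j ∈ s, f j) q x = ∑ j ∈ s, hmap (f j) q x := by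
  change Sheaf.H.map (tm (∑ j ∈ s, f j)) q x = _
  rw [tm, Functor.map_sum, CohLinear.hMap_sum]
  rfl

theorem bijective_B_sum (r : ℕ) (d : ℤ) : Function.Bijective (B (∐ fun _ : Fin r => O' n k d)) := by
  classical
  let M : Fin r → (CohB1.ProjSpace n k).Modules := fun _ => O' n k d
  constructor
  · intro φ ψ h
    refine Sigma.hom_ext _ _ fun j => injective_B_O d ?_
    rw [B_comp, B_comp, h]
  · intro ψ
    choose φ hφ using fun j : Fin r => surjective_B_O (n := n) d (ψ.comp (overLin k (hmap (Sigma.ι M j) n)))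
    refine ⟨Sigma.desc φ, LinearMap.ext fun x => ?_⟩
    let pr : ∀ j, ∐ M ⟶ M j := fun j => Sigma.desc fun i =>
      if h : i = j then eqToHom (congrArg M h) else 0
    have hid : 𝟙 (∐ M) = ∑ j, pr j ≫ Sigma.ι M j := by
      refine Sigma.hom_ext _ _ fun i => ?_
      rw [Category.comp_id, Preadditive.comp_sum, Finset.sum_eq_single i]
      · simp [pr]
      · intro j _ hj
        simp [pr, Ne.symm hj]
      · simp
    have hx : x = ∑ j, hmap (Sigma.ι M j) n (hmap (pr j) n x) := by
      conv_lhs => rw [← hmap_id n x, hid, hmap_sum]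
      simp only [hmap_comp]
      rfl
    rw [hx, map_sum, map_sum]
    refine Finset.sum_congr rfl fun j _ => ?_
    have h1 := LinearMap.congr_fun (hφ j) (hmap (pr j) n x)
    refine Eq.trans ?_ h1
    rw [B_apply, B_apply, ← hmap_comp, ← hmap_comp, Sigma.ι_desc]
    rw [← hmap_comp]

theorem surjective_hmap_of_epi {E M : (CohB1.ProjSpace n k).Modules} (hE : Coh.IsCoh E) (hM : Coh.IsCoh M)
    (p : E ⟶ M) [Epi p] : Function.Surjective (hmap p n) := by
  haveI := proper n k
  haveI := Groth.L21.RR.isNoetherian_of_proper (X := CohB1.ProjSpace n k) k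
  haveI := hM.1
  haveI := (CohKernel.isCoh_kernel_cokernel hE hM p).1.1
  have hS : (ShortComplex.mk (kernel.ι p) p (kernel.condition p)).ShortExact :=
    { exact := ShortComplex.exact_kernel p }
  haveI := ProjSpace.subsingleton_HH_of_lt n k (kernel p) (n + 1) (by omega)
  exact fun y => (CohLinear.exact_hmap_delta hS n y).1 (Subsingleton.elim _ _)

theorem injective_B {M : (CohB1.ProjSpace n k).Modules} (hM : Coh.IsCoh M) : Function.Injective (B M) := by
  obtain ⟨q, r, p, -, hp⟩ := exists_epi_twists hM 0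
  intro φ ψ h
  refine (cancel_epi p).1 ((bijective_B_sum r _).1 ?_)
  rw [B_comp, B_comp, h]

theorem bijective_B {M : (CohB1.ProjSpace n k).Modules} (hM : Coh.IsCoh M) : Function.Bijective (B M) := by
  refine ⟨injective_B hM, fun ψ => ?_⟩
  obtain ⟨q, r, p, -, hp⟩ := exists_epi_twists hM 0
  have hE := isCoh_sum (n := n) (k := k) r (-(q : ℤ))
  haveI := proper n k
  haveI := Groth.L21.RR.isNoetherian_of_proper (X := CohB1.ProjSpace n k) k
  haveI := hM.1
  have hK := (CohKernel.isCoh_kernel_cokernel hE hM p).1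
  obtain ⟨φ₀, hφ₀⟩ := (bijective_B_sum r _).2 (ψ.comp (overLin k (hmap p n)))
  have h0 : kernel.ι p ≫ φ₀ = 0 := injective_B hK (by
    rw [B_comp, hφ₀, map_zero]
    refine LinearMap.ext fun x => ?_
    show ψ (hmap p n (hmap (kernel.ι p) n x)) = 0
    rw [← hmap_comp, kernel.condition]
    change ψ (Sheaf.H.map (tm 0) n x) = 0
    rw [tm, Functor.map_zero]
    change ψ (((Sheaf.functorH _ n).map 0).hom x) = 0
    rw [Functor.map_zero]
    exact map_zero ψ)
  let φ := (Abelian.epiIsCokernelOfKernel _ (kernelIsKernel p)).desc (CokernelCofork.ofπ φ₀ h0)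
  have hφ : p ≫ φ = φ₀ := (Abelian.epiIsCokernelOfKernel _ (kernelIsKernel p)).fac _ WalkingParallelPair.one
  refine ⟨φ, LinearMap.ext fun y => ?_⟩
  obtain ⟨x, rfl⟩ := surjective_hmap_of_epi hE hM p y
  have h1 := LinearMap.congr_fun ((congrArg (B _) hφ).trans hφ₀) x
  rw [B_comp] at h1
  exact h1

/-- `Hom(M, ω) ≅ H^n(M)^∨`, linearly over the base. -/
theorem existsUnique_hom {M : (CohB1.ProjSpace n k).Modules} (hM : Coh.IsCoh M)
    (ψ : Module.Dual k (Coh.HH (CohB1.ProjSpace n k) M n)) :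
    ∃! φ : M ⟶ ω' n k, ∀ x, ψ x = tr n k (Sheaf.H.map (tm φ) n x) := by
  obtain ⟨φ, hφ⟩ := (bijective_B hM).2 ψ
  exact ⟨φ, fun x => (LinearMap.congr_fun hφ x).symm,
    fun φ' h' => (bijective_B hM).1 (hφ ▸ LinearMap.ext fun x => (h' x).symm)⟩

end Groth.L22.PDual
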