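import Groth.Agent.L22.PDual.CMVanish
import Groth.Agent.L22.PDual.ProjEmbed
import Groth.Agent.L21.Curve.NormalConnected
import Groth.Agent.L22.SchemeDim
import Groth.Agent.L04.RegularPd
import Groth.Agent.L12.CotTCI
import Groth.Agent.L01.Regular

/-!
On a regular connected projective scheme a coherent sheaf is locally free iff its negative twists have no
cohomology below the dimension.
-/

set_option autoImplicit false
set_option backward.isDefEq.respectTransparency false
set_option linter.style.haveILetI false
universe u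

open CategoryTheory CategoryTheory.Limits AlgebraicGeometry TopologicalSpace Opposite
open IsLocalRing

noncomputable section

namespace Groth.L22.PDual

open Groth.L16
open Groth.L22.Reg (O' tw')

/-- A finite module of full depth over a regular local ring is free. -/
theorem free_of_le_depth {A : Type u} [CommRing A] [IsRegularLocalRing A] {d : ℕ} (hd : ringKrullDim A = d)
    (M : Type u) [AddCommGroup M] [Module A M] [Module.Finite A M] (h : (d : ℕ∞) ≤ LocCoh.depth A M) :
    Module.Free A M := by
  rcases subsingleton_or_nontrivial M with hs | hs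
  · infer_instance
  have hne : projectiveDimension (ModuleCat.of A M) ≠ ⊥ := fun hb => by
    haveI := ModuleCat.subsingleton_of_isZero ((projectiveDimension_eq_bot_iff _).1 hb)
    exact not_subsingleton M (inferInstanceAs (Subsingleton (ModuleCat.of A M)))
  haveI := Groth.L04.hasProjectiveDimensionLE_of_regularLocal hd (ModuleCat.of A M)
  have hle := (projectiveDimension_le_iff (ModuleCat.of A M) d).2 inferInstance
  obtain ⟨e, he⟩ : ∃ e : ℕ, projectiveDimension (ModuleCat.of A M) = e := by
    match projectiveDimension (ModuleCat.of A M), hne, hle with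
    | (some (some e)), _, _ => exact ⟨e, rfl⟩
    | ⊥, hne, _ => exact absurd rfl hne
    | ⊤, _, hle => exact absurd (top_le_iff.1 hle) (by exact WithBot.coe_injective.ne (ENat.natCast_ne_top d))
  have h1 := (Groth.L01.AusBuch.le_depth_iff e M he d).1 h
  haveI := Groth.L12.CotTLib.cm_of_regular A
  have h2 := Groth.L06.FlatCodepth.depth_le_dim A
  rw [hd] at h2
  have h3 : (d + e : ℕ) ≤ d := by
    have := h1.trans (WithBot.coe_le_coe.1 h2)
    exact_mod_cast this
  obtain rfl : e = 0 := by omega
  haveI : Module.Projective A M := (IsProjective.iff_projective M).2 (by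
    rw [projective_iff_hasProjectiveDimensionLT_one]
    exact (projectiveDimension_le_iff (ModuleCat.of A M) 0).1 he.le)
  exact Module.free_of_flat_of_isLocalRing

theorem depth_eq_dim {A : Type u} [CommRing A] [IsRegularLocalRing A] {d : ℕ} (hd : ringKrullDim A = d) :
    LocCoh.depth A A = d := by
  have h := (Groth.L12.CotTLib.cm_of_regular A).supportDim_eq_depth
  rw [Module.supportDim_self_eq_ringKrullDim, hd] at h
  exact (WithBot.coe_injective h).symm

/-- Closed points of an irreducible scheme of finite type over a field have local rings of full dimension. -/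
theorem dim_stalk_closed_point (k : Type u) [Field k] {X : Scheme.{u}} [X.Over (Spec (CommRingCat.of k))]
    [LocallyOfFiniteType (X ↘ Spec (CommRingCat.of k))] [IrreducibleSpace X] {d : ℕ}
    (hd : topologicalKrullDim X = d) {x : X} (hx : IsClosed ({x} : Set X)) :
    ringKrullDim (X.presheaf.stalk x) = d := by
  obtain ⟨n, hn, -, hop⟩ := Groth.L22.SchemeDim.exists_dim_eq_trdeg k X
  obtain rfl : n = d := by exact_mod_cast hn.symm.trans hd
  obtain ⟨m, hm, htr⟩ := Groth.L22.SchemeDim.exists_dim_closure_eq_trdeg k X x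
  obtain ⟨a, b, ha, hb, hloc⟩ := Groth.L22.SchemeDim.exists_localDim k X x
  have hm0 : m = 0 := by
    rw [hx.closure_eq] at hm
    haveI : DiscreteTopology ({x} : Set X) := inferInstance
    have h0 := hm.symm.le.trans (topologicalKrullDim_zero_of_discreteTopology ({x} : Set X))
    exact Nat.le_zero.1 (by exact_mod_cast h0)
  obtain rfl : a = 0 := by
    have : (a : Cardinal) = m := ha.symm.trans htr
    rw [hm0] at this
    exact_mod_cast this
  have h1 : FlatMor.localDim X x = (n : WithBot ℕ∞) := by
    refine le_antisymm (iInf_le_of_le ⟨⊤, trivial⟩ (hop ⊤ ⟨x, trivial⟩).le) (le_iInf fun V => ?_)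
    exact (hop V.1 ⟨x, V.2⟩).ge
  rw [hb, ← h1, hloc, zero_add]

variable {k : Type u} [Field k] {N : ℕ} {X : Scheme.{u}} (i : X ⟶ CohB1.ProjSpace N k) [IsClosedImmersion i]

theorem isFinLocFree_iff_vanish [ConnectedSpace X] (hreg : ∀ x : X, IsRegularLocalRing (X.presheaf.stalk x))
    (d : ℕ) (hd : topologicalKrullDim X = d) (L : ℤ → X.Modules)
    (hL : ∀ m, Nonempty ((Scheme.Modules.pullback i).obj (O' N k m) ≅ L m)) {F : X.Modules} (hF : Coh.IsCoh F) :
    FlatMod.IsFinLocFree F ↔
      ∀ j : ℕ, j < d → ∃ n₀ : ℤ, ∀ n : ℤ, n ≤ n₀ → Subsingleton (Coh.HH X (CohB1.tensorMod F (L n)) j) := by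
  haveI := proper N k
  haveI := Groth.L21.RR.isNoetherian_of_proper (X := CohB1.ProjSpace N k) k
  haveI := Groth.L22.Reg.isLocallyNoetherian_closed i
  haveI : CompactSpace X := QuasiCompact.compactSpace_of_compactSpace i
  haveI : AlgebraicGeometry.IsNoetherian X := ⟨⟩
  haveI : IsIntegral X := Groth.L21.NormalTotal.isIntegral_of_connected fun x => by
    haveI := hreg x
    exact Groth.L01.isDomain_of_regular _
  letI : X.Over (Spec (CommRingCat.of k)) := ⟨i ≫ CohB1.ProjSpace.toSpec N k⟩
  haveI : LocallyOfFiniteType (X ↘ Spec (CommRingCat.of k)) :=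
    inferInstanceAs (LocallyOfFiniteType (i ≫ CohB1.ProjSpace.toSpec N k))
  have hfp := Groth.L15.Ref.isFP_of_isCoh hF
  have hstep : ∀ j : ℕ, (∃ n₀ : ℤ, ∀ n : ℤ, n ≤ n₀ → Subsingleton (Coh.HH X (CohB1.tensorMod F (L n)) j)) ↔
      ∃ m₀ : ℤ, ∀ m : ℤ, m₀ ≤ m →
        Subsingleton (Coh.HH (CohB1.ProjSpace N k) (tw' ((Coh.push i).obj F) (-m)) j) := fun j => by
    have key : ∀ n : ℤ, Subsingleton (Coh.HH (CohB1.ProjSpace N k) (tw' ((Coh.push i).obj F) n) j) ↔
        Subsingleton (Coh.HH X (CohB1.tensorMod F (L n)) j) := fun n => by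
      obtain ⟨e⟩ := hL n
      rw [subsingleton_push_twist_iff]
      exact ⟨Groth.L16.ProjSpace.subsingleton_of_iso (Groth.L00.Tensor.tensorIso (Iso.refl F) e.symm) j,
        Groth.L16.ProjSpace.subsingleton_of_iso (Groth.L00.Tensor.tensorIso (Iso.refl F) e) j⟩
    exact ⟨fun ⟨n₀, h⟩ => ⟨-n₀, fun m hm => (key _).2 (h _ (by omega))⟩,
      fun ⟨m₀, h⟩ => ⟨-m₀, fun n hn => (key n).1 (by simpa using h (-n) (by omega))⟩⟩
  have hclosed : ∀ z : CohB1.ProjSpace N k, IsClosed ({z} : Set (CohB1.ProjSpace N k)) → ∀ x : X, i x = z →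
      IsClosed ({x} : Set X) := fun z hz x hx => by
    have := hz.preimage i.continuous
    rwa [show i ⁻¹' {z} = {x} from Set.ext fun w =>
      ⟨fun h => i.isClosedEmbedding.injective (Eq.trans h hx.symm), fun h => (congrArg _ h).trans hx⟩] at this
  have hpush := Groth.L22.Reg.isCoh_push_closed i hF
  rcases d with _ | p
  · refine iff_of_true ((Groth.L18.LFP.isFP_and_free_iff F).1 ⟨hfp, fun x => ?_⟩)
      fun j hj => absurd hj (Nat.not_lt_zero _)
    haveI := hreg x
    haveI := Groth.L18.LFP.finite_stalk F hfp x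
    refine free_of_le_depth (d := 0) (le_antisymm ((Groth.L15.CohFlat.ringKrullDim_stalk_le x).trans hd.le) ?_) _
      zero_le
    exact ringKrullDim_nonneg_of_nontrivial
  constructor
  · intro hfree j hj
    rw [hstep, vanish_iff_localCohomology hpush]
    intro z hz
    haveI := regular_stalk z
    haveI := finite_stalk_of_isCoh hpush z
    refine (Groth.L04.LC.le_idealDepth_iff_H _ _ (p + 1)).1 ?_ j hj
    by_cases hr : z ∈ Set.range i
    · obtain ⟨x, rfl⟩ := hr
      haveI := hreg x
      haveI := Groth.L18.LFP.finite_stalk F hfp x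
      haveI := Groth.L18.LFP.free_stalk F hfree x
      refine le_of_le_of_eq ?_ (depth_stalk_push i x).symm
      rcases subsingleton_or_nontrivial (F.presheaf.stalk x) with hs | hs
      · rw [LocCoh.depth, Groth.L04.idealDepth_eq_top (Subsingleton.elim _ _)]
        exact le_top
      · rw [Groth.L01.AusBuch.depth_free, depth_eq_dim (dim_stalk_closed_point k hd (hclosed _ hz x rfl))]
    · haveI : Subsingleton (((Coh.push i).obj F).presheaf.stalk z) :=
        Groth.L17.ClosedPush.subsingleton_stalk_push i F hr
      rw [Groth.L04.idealDepth_eq_top (Subsingleton.elim _ _)]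
      exact le_top
  · intro h
    refine (Groth.L18.LFP.isFP_and_free_iff F).1 ⟨hfp, ?_⟩
    have hcl : ∀ x : X, IsClosed ({x} : Set X) →
        Module.Free (X.presheaf.stalk x) (F.presheaf.stalk x) := fun x hx => by
      haveI := hreg x
      haveI := Groth.L18.LFP.finite_stalk F hfp x
      haveI := regular_stalk (i x)
      haveI := finite_stalk_of_isCoh hpush (i x)
      refine free_of_le_depth (dim_stalk_closed_point k hd hx) _ ?_
      rw [← depth_stalk_push i x]
      refine (Groth.L04.LC.le_idealDepth_iff_H _ _ (p + 1)).2 fun j hj => ?_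
      exact (vanish_iff_localCohomology hpush j).1 ((hstep j).1 (h j hj)) (i x)
        (by rw [← Set.image_singleton]; exact i.isClosedEmbedding.isClosedMap _ hx)
    intro x
    obtain ⟨z, hz, hxz⟩ := Groth.L21.RR.exists_closed_specialization x
    haveI := Groth.L18.LFP.finite_stalk F hfp x
    haveI : Module.Flat (X.presheaf.stalk x) (F.presheaf.stalk x) :=
      hxz.mem_open (Groth.L15.Ref.isOpen_flatAt F hF) (show z ∈ {y : X | FlatMod.IsFlatAt F y} from
        @Module.Flat.of_free _ _ _ _ _ (hcl z hz))
    exact Module.free_of_flat_of_isLocalRing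

end Groth.L22.PDual
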