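import Groth.Agent.L22.Big.Basic
import Groth.Agent.L22.Reg.Chi

/-!
Top cohomology is surjective along nonzero maps of invertible modules.
-/

set_option autoImplicit false
set_option backward.isDefEq.respectTransparency false
set_option linter.style.haveILetI false
universe u

open CategoryTheory CategoryTheory.Limits AlgebraicGeometry TopologicalSpace Opposite

noncomputable section

namespace Groth.L22.PDual

open Groth.L16
open Groth.L16.CohLinear (hmap hmap_comp hmap_id overLin)
open Groth.L21.RR (st st_germ)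

variable {X : Scheme.{u}}

theorem mono_of_ne_zero [AlgebraicGeometry.IsNoetherian X] [IsIntegral X] {M N : X.Modules} (hM : PicF.IsInvertible M) (hN : PicF.IsInvertible N)
    {φ : M ⟶ N} (hφ : φ ≠ 0) : Mono φ := by
  refine Groth.L22.Nakai.mono_of_injective hM φ (show Function.Injective (st φ (genericPoint X)) from ?_)
  obtain ⟨e, he⟩ := Groth.L21.RR.exists_frame_stalk hM (genericPoint X)
  obtain ⟨f, hf⟩ := Groth.L21.RR.exists_frame_stalk hN (genericPoint X)
  obtain ⟨b, hb⟩ := hf.2 (st φ (genericPoint X) e)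
  change b • f = st φ (genericPoint X) e at hb
  by_cases hb0 : b = 0
  · refine absurd (Groth.L21.Mod.hom_ext_stalk fun x => ?_) hφ
    ext v
    rw [Functor.map_zero]
    change st φ x v = 0
    obtain ⟨U, hx, t, rfl⟩ := TopCat.Presheaf.exists_germ_eq M.presheaf v
    obtain ⟨W, g, hxW, hg⟩ := Groth.L18.Frame.exists_frame hN x
    have hx' : x ∈ U ⊓ W := ⟨hx, hxW⟩
    have hη : genericPoint X ∈ U ⊓ W := ((genericPoint_spec X).specializes trivial).mem_open (U ⊓ W).2 hx'
    have hg' := hg.mono (inf_le_right : U ⊓ W ≤ W)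
    obtain ⟨a, ha⟩ := hg'.exists_coeff le_rfl (φ.app (U ⊓ W) (Groth.L18.Frame.rs M inf_le_left t))
    rw [Groth.L18.Frame.rs_self] at ha
    obtain ⟨c, hc⟩ := he.2 (M.presheaf.germ (U ⊓ W) (genericPoint X) hη (Groth.L18.Frame.rs M inf_le_left t))
    have h0 : X.presheaf.germ (U ⊓ W) (genericPoint X) hη a = 0 := by
      refine (Groth.L21.RR.bijective_germ_frame hg' hη).1 (Eq.trans ?_ (zero_smul (X.presheaf.stalk _) _).symm)
      show X.presheaf.germ (U ⊓ W) (genericPoint X) hη a • N.presheaf.germ (U ⊓ W) _ hη _ = 0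
      rw [← Groth.L20.ModStalk.germ_smul, ha, ← st_germ φ hη, ← hc]
      change st φ _ (c • e) = 0
      rw [map_smul, ← hb, hb0]
      exact (congrArg (c • ·) (zero_smul (X.presheaf.stalk (genericPoint X)) f)).trans (smul_zero c)
    have ha0 : a = 0 := germ_injective_of_isIntegral X _ hη (h0.trans (map_zero _).symm)
    rw [← Groth.L20.ModStalk.germ_rs M (inf_le_left : U ⊓ W ≤ U) hx' t, st_germ φ hx', ← ha, ha0,
      Groth.L20.ModStalk.germ_smul, map_zero]
    exact zero_smul _ _
  · intro v w hvw
    obtain ⟨c, rfl⟩ := he.2 v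
    obtain ⟨d, rfl⟩ := he.2 w
    change st φ _ (c • e) = st φ _ (d • e) at hvw
    rw [map_smul, map_smul, ← hb, smul_smul, smul_smul] at hvw
    rw [mul_right_cancel₀ hb0 (hf.1 hvw)]

theorem isZero_of_generic_notMem [IsIntegral X] [AlgebraicGeometry.IsNoetherian X]
    (hdim : topologicalKrullDim X = (0 : ℕ)) {Q : X.Modules} (hQ : Coh.IsCoh Q)
    (hη : genericPoint X ∉ CohB1.support Q) : IsZero Q := by
  have hcl : IsClosed (CohB1.support Q) := Groth.L16.CohSupport.isClosed_support Q hQ.2
  refine (Groth.L21.Mod.isZero_iff_support_eq_empty Q).2 ?_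
  by_contra hne
  have h1 : topologicalKrullDim (CohB1.support Q) + 1 ≤ (0 : WithBot ℕ∞) :=
    (Groth.L03.Euler.topologicalKrullDim_add_one_le hcl (IrreducibleSpace.isIrreducible_univ X)
      (Set.subset_univ _) fun he => hη (he ▸ trivial)).trans
      ((IsHomeomorph.topologicalKrullDim_eq _ (Homeomorph.Set.univ X).isHomeomorph).trans_le hdim.le)
  have h2 := Groth.L03.Euler.zero_le_topologicalKrullDim (Set.nonempty_iff_ne_empty.2 hne)
  have h3 : (1 : WithBot ℕ∞) ≤ 0 := le_trans (by simpa using add_le_add_left h2 1) h1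
  exact not_lt.2 h3 zero_lt_one

theorem subsingleton_HH_of_generic_notMem [IsIntegral X] (k : Type u) [Field k]
    [X.Over (Spec (CommRingCat.of k))] [IsProper (X ↘ Spec (CommRingCat.of k))] {n : ℕ}
    (hdim : topologicalKrullDim X = n) {Q : X.Modules} (hQ : Coh.IsCoh Q)
    (hη : genericPoint X ∉ CohB1.support Q) : Subsingleton (Coh.HH X Q n) := by
  haveI := Groth.L21.RR.isNoetherian_of_proper (X := X) k
  have hcl : IsClosed (CohB1.support Q) := Groth.L16.CohSupport.isClosed_support Q hQ.2
  cases n with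
  | zero => exact Groth.L03.Euler.subsingleton_HH_of_isZero (isZero_of_generic_notMem hdim hQ hη) 0
  | succ m =>
    exact Groth.L22.Big.subsingleton_HH_of_support k hQ (Groth.L22.Big.dim_le_of_generic_notMem hcl hη hdim.le)
      m.lt_succ_self

/-- A nonzero map of invertible modules is surjective on top cohomology. -/
theorem surjective_hmap_top [IsIntegral X] (k : Type u) [Field k]
    [X.Over (Spec (CommRingCat.of k))] [IsProper (X ↘ Spec (CommRingCat.of k))] {n : ℕ}
    (hdim : topologicalKrullDim X = n) {M N : X.Modules} (hM : PicF.IsInvertible M) (hN : PicF.IsInvertible N)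
    {φ : M ⟶ N} (hφ : φ ≠ 0) : Function.Surjective (hmap φ n) := by
  haveI := Groth.L21.RR.isNoetherian_of_proper (X := X) k
  haveI := mono_of_ne_zero hM hN hφ
  obtain ⟨hQ, hη⟩ := Groth.L22.Big.cokernel_facts k hM hN φ
  haveI := subsingleton_HH_of_generic_notMem k hdim hQ hη
  have hS : (ShortComplex.mk φ (cokernel.π φ) (cokernel.condition φ)).ShortExact :=
    { exact := ShortComplex.exact_cokernel φ }
  exact fun y => (CohLinear.exact_hmap_hmap hS n y).1 (Subsingleton.elim _ _)

end Groth.L22.PDual
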