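import Groth.Agent.L22.PDual.HomPre
import Groth.Agent.L22.PDual.Horrocks
import Groth.Agent.L22.PDual.ExtDual
import Groth.Agent.L00.StalkFunctor
import Groth.Agent.L12.DefoSh.Tensor
import Groth.Agent.L29.DCoh.TensorPerfect
import Groth.Agent.L20.ResAmple
import Groth.Agent.L21.RR.Twist

/-!
Vanishing of `H^i(F(-m))` for large `m` and the stalks of `Ext^{n-i}(F, ω)`.
-/

set_option autoImplicit false
set_option backward.isDefEq.respectTransparency false
set_option linter.style.haveILetI false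
universe u

open CategoryTheory CategoryTheory.Limits CategoryTheory.Abelian AlgebraicGeometry TopologicalSpace Opposite

noncomputable section

namespace Groth.L22.PDual

open Groth.L16
open Groth.L00.Tensor (tensorRightF tensorMap tensorIso tensorUnitLeft)
open Groth.L22.Reg (O' tw' Regular)
open Groth.L16.CohLinear (hmap)
open Groth.L16.HomSh (homMod curryHom curryEquiv)

variable {k : Type u} [Field k] {n : ℕ}

/-- Eventual vanishing of `Ext^j(F(-m), ω)`. -/
def EvVanish [HasExt.{u} (CohB1.ProjSpace n k).Modules] (F : (CohB1.ProjSpace n k).Modules) (j : ℕ) : Prop :=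
  ∃ m₀ : ℤ, ∀ m : ℤ, m₀ ≤ m → Subsingleton (Ext (tw' F (-m)) (ω' n k) j)

/-- A set of points meeting every nonempty closed set. -/
def Meets (P : CohB1.ProjSpace n k → Prop) : Prop :=
  ∀ x : CohB1.ProjSpace n k, ∃ z, P z ∧ x ⤳ z

theorem meets_all : Meets (n := n) (k := k) fun _ => True := fun x => ⟨x, trivial, specializes_rfl⟩

theorem meets_closed : Meets (n := n) (k := k) fun x => IsClosed ({x} : Set (CohB1.ProjSpace n k)) := fun x => by
  haveI := proper n k
  haveI := Groth.L21.RR.isNoetherian_of_proper (X := CohB1.ProjSpace n k) k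
  exact Groth.L21.RR.exists_closed_specialization x

/-- Vanishing of `Ext^j(F_x, O_x)` at every point of `P`. -/
def LocVanish (P : CohB1.ProjSpace n k → Prop) (F : (CohB1.ProjSpace n k).Modules) (j : ℕ) : Prop :=
  ∀ x : CohB1.ProjSpace n k, P x → Subsingleton
    (Ext (ModuleCat.of ((CohB1.ProjSpace n k).presheaf.stalk x) (F.presheaf.stalk x))
      (ModuleCat.of ((CohB1.ProjSpace n k).presheaf.stalk x) ((CohB1.ProjSpace n k).presheaf.stalk x)) j)

theorem free_stalk_sum (r : ℕ) (d : ℤ) (x : CohB1.ProjSpace n k) :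
    Module.Free ((CohB1.ProjSpace n k).presheaf.stalk x) ((∐ fun _ : Fin r => O' n k d).presheaf.stalk x) :=
  Groth.L12.DefoSh.free_stalk (Groth.L29.DC.isFinLocFree_coprod_fin r _ fun _ =>
    Groth.L20.ResDescent.isFinLocFree_of_isInvertible (ProjTwist.isInvertible_twistProjSpace n k d)) x

/-- `Hom(M(-m), ω)` as sections of the twisted sheaf of homomorphisms. -/
theorem exists_psi (M : (CohB1.ProjSpace n k).Modules) (m : ℤ) :
    ∃ e : Coh.structureModule (CohB1.ProjSpace n k) ≅ CohB1.tensorMod (O' n k (-m)) (O' n k m),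
      Function.Bijective fun α : tw' M (-m) ⟶ ω' n k =>
        e.hom ≫ (tensorRightF (O' n k m)).map (curryHom α) := by
  obtain ⟨a⟩ := Groth.L22.Reg.nonempty_O_add (n := n) (R := k) (show -m + m = 0 by omega)
  obtain ⟨b⟩ := Groth.L22.Reg.nonempty_O_zero n k
  haveI := isEquivalence_tw (n := n) (k := k) m
  refine ⟨(a ≪≫ b).symm, ?_⟩
  have h : Function.Bijective fun α : tw' M (-m) ⟶ ω' n k =>
      (Iso.homCongr (a ≪≫ b) (Iso.refl _)) ((tensorRightF (O' n k m)).map (curryEquiv M (O' n k (-m)) (ω' n k) α)) :=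
    (Iso.homCongr (a ≪≫ b) (Iso.refl _)).bijective.comp
      (Function.Bijective.comp ⟨(tensorRightF (O' n k m)).map_injective, (tensorRightF (O' n k m)).map_surjective⟩
        (curryEquiv M (O' n k (-m)) (ω' n k)).bijective)
  convert h using 1
  exact funext fun α => ((Iso.homCongr_apply _ _ _).trans (congrArg _ (Category.comp_id _))).symm

theorem exists_large_vanish {G : (CohB1.ProjSpace n k).Modules} (hG : Coh.IsCoh G) :
    ∃ m₀ : ℤ, ∀ m : ℤ, m₀ ≤ m → Subsingleton (Coh.HH (CohB1.ProjSpace n k) (tw' G m) 1) ∧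
      Curv2.IsGloballyGenerated (tw' G m) := by
  obtain ⟨d, hd⟩ := Groth.L22.Reg.exists_regular hG
  exact ⟨d, fun m hm => ⟨hd.subsingleton le_rfl (by omega), hd.isGloballyGenerated hG hm⟩⟩

theorem exists_large_surjective_iff {A C : (CohB1.ProjSpace n k).Modules} (hA : Coh.IsCoh A) (hC : Coh.IsCoh C)
    (a : A ⟶ C) :
    (∃ m₀ : ℤ, ∀ m : ℤ, m₀ ≤ m → ∀ g : Coh.structureModule (CohB1.ProjSpace n k) ⟶ tw' C m,
      ∃ h, h ≫ (tensorRightF (O' n k m)).map a = g) ↔ Epi a := by
  haveI := proper n k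
  haveI := Groth.L21.RR.isNoetherian_of_proper (X := CohB1.ProjSpace n k) k
  haveI := hC.1
  constructor
  · rintro ⟨m₀, h⟩
    obtain ⟨m₁, h₁⟩ := exists_large_vanish hC
    let T := tensorRightF (O' n k (max m₀ m₁))
    haveI := isEquivalence_tw (n := n) (k := k) (max m₀ m₁)
    suffices hπ : T.map (cokernel.π a) = 0 by
      exact Preadditive.epi_of_cancel_zero _ fun g hg => by
        rw [← cokernel.π_desc a g hg, show cokernel.π a = 0 from T.map_injective (hπ.trans (T.map_zero _ _).symm),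
          zero_comp]
    by_contra hne
    obtain ⟨s, hs⟩ := exists_section_comp_ne_zero (h₁ _ (le_max_right _ _)).2 hne
    obtain ⟨t, ht⟩ := h _ (le_max_left _ _) s
    refine hs ?_
    rw [← ht, Category.assoc, ← T.map_comp, cokernel.condition, T.map_zero, comp_zero]
  · intro hepi
    obtain ⟨m₀, h₀⟩ := exists_large_vanish (CohKernel.isCoh_kernel_cokernel hA hC a).1
    refine ⟨m₀, fun m hm g => ?_⟩
    have hS : (ShortComplex.mk (kernel.ι a) a (kernel.condition a)).ShortExact :=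
      { exact := ShortComplex.exact_kernel a }
    have hT := Groth.L22.Reg.shortExact_tw hS m
    refine exists_lift_section _ (fun y => (CohLinear.exact_hmap_delta hT 0 y).1 ?_) g
    exact @Subsingleton.elim _ (h₀ m hm).1 _ _

/-- The stalk of `ω` is the local ring. -/
theorem nonempty_stalk_ω (x : CohB1.ProjSpace n k) :
    Nonempty ((ω' n k).presheaf.stalk x ≃ₗ[(CohB1.ProjSpace n k).presheaf.stalk x]
      (CohB1.ProjSpace n k).presheaf.stalk x) := by
  obtain ⟨e, he⟩ := Groth.L21.RR.exists_frame_stalk (ProjTwist.isInvertible_twistProjSpace n k (-((n : ℤ) + 1))) x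
  exact ⟨(LinearEquiv.ofBijective (LinearMap.toSpanSingleton _ _ e) he).symm⟩

theorem isQCoh_ω : Coh.IsQCoh (ω' n k) := ProjTwist.isQCoh_twist _ _

theorem isCoh_homMod_ω {M : (CohB1.ProjSpace n k).Modules} (hM : Coh.IsCoh M) :
    Coh.IsCoh (homMod M (ω' n k)) :=
  haveI := proper n k
  haveI := Groth.L21.RR.isNoetherian_of_proper (X := CohB1.ProjSpace n k) k
  Groth.L16.HomSh.isCoh_homMod hM (isCoh_O _)

variable {P : CohB1.ProjSpace n k → Prop}

theorem isZero_iff_on (hP : Meets P) {G : (CohB1.ProjSpace n k).Modules} (hG : Coh.IsCoh G) :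
    IsZero G ↔ ∀ x, P x → Subsingleton (G.presheaf.stalk x) := by
  rw [Groth.L21.Mod.isZero_iff_stalk_subsingleton]
  refine ⟨fun h x _ => h x, fun h x => ?_⟩
  obtain ⟨z, hz, hxz⟩ := hP x
  by_contra hx
  have h1 : z ∈ CohB1.support G :=
    hxz.mem_closed (Groth.L16.CohSupport.isClosed_support G hG.2) hx
  exact h1 (h z hz)

theorem epi_iff_on (hP : Meets P) {A C : (CohB1.ProjSpace n k).Modules} (hA : Coh.IsCoh A) (hC : Coh.IsCoh C)
    (a : A ⟶ C) : Epi a ↔ ∀ x, P x → Function.Surjective ((Groth.L21.Mod.stalkF _ x).map a) := by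
  haveI := proper n k
  haveI := Groth.L21.RR.isNoetherian_of_proper (X := CohB1.ProjSpace n k) k
  haveI := hC.1
  refine ⟨fun h x _ => (Groth.L21.Mod.epi_iff_stalk_surjective a).1 h x, fun h => ?_⟩
  refine Abelian.epi_of_cokernel_π_eq_zero a (IsZero.eq_of_tgt
    ((isZero_iff_on hP (CohKernel.isCoh_kernel_cokernel hA hC a).2).2 fun x hx => ?_) _ _)
  refine subsingleton_of_forall_eq 0 fun v => ?_
  obtain ⟨w, rfl⟩ := (Groth.L21.Mod.epi_iff_stalk_surjective (cokernel.π a)).1 inferInstance x v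
  obtain ⟨t, rfl⟩ := h x hx w
  have h0 : (Groth.L21.Mod.stalkF _ x).map a ≫ (Groth.L21.Mod.stalkF _ x).map (cokernel.π a) = 0 := by
    rw [← Functor.map_comp, cokernel.condition, Functor.map_zero]
  exact ConcreteCategory.congr_hom h0 t

/-- `Hom(M, ω)_x = Hom(M_x, O_x)`, naturally. -/
theorem epi_pre_iff (hP : Meets P) {M M' : (CohB1.ProjSpace n k).Modules} (hM : Coh.IsCoh M) (hM' : Coh.IsCoh M')
    (f : M ⟶ M') : Epi (pre' (ω' n k) f) ↔ ∀ x : CohB1.ProjSpace n k, P x → ∀
      (φ : M.presheaf.stalk x →ₗ[(CohB1.ProjSpace n k).presheaf.stalk x] (CohB1.ProjSpace n k).presheaf.stalk x),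
      ∃ ψ : M'.presheaf.stalk x →ₗ[(CohB1.ProjSpace n k).presheaf.stalk x] (CohB1.ProjSpace n k).presheaf.stalk x,
        ψ.comp (RefHull.stalkMapₗ f x) = φ := by
  haveI := proper n k
  haveI := Groth.L21.RR.isNoetherian_of_proper (X := CohB1.ProjSpace n k) k
  haveI := isQCoh_ω (n := n) (k := k)
  rw [epi_iff_on hP (isCoh_homMod_ω hM') (isCoh_homMod_ω hM)]
  refine forall₂_congr fun x _ => ?_
  obtain ⟨e⟩ := nonempty_stalk_ω (n := n) (k := k) x
  constructor
  · intro h φ
    obtain ⟨θ, hθ⟩ := (bijective_stalkHom M (ω' n k) hM x).2 (e.symm.toLinearMap.comp φ)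
    obtain ⟨θ', rfl⟩ := h θ
    refine ⟨e.toLinearMap.comp (stalkHom M' (ω' n k) x θ'), LinearMap.ext fun v => ?_⟩
    have h1 := LinearMap.congr_fun ((stalkHom_pre' f x θ').symm.trans hθ) v
    exact (congrArg e h1).trans (e.apply_symm_apply _)
  · intro h θ
    obtain ⟨ψ, hψ⟩ := h (e.toLinearMap.comp (stalkHom M (ω' n k) x θ))
    obtain ⟨θ', hθ'⟩ := (bijective_stalkHom M' (ω' n k) hM' x).2 (e.symm.toLinearMap.comp ψ)
    refine ⟨θ', (bijective_stalkHom M (ω' n k) hM x).1 ((stalkHom_pre' f x θ').trans ?_)⟩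
    rw [hθ']
    refine LinearMap.ext fun v => ?_
    exact (congrArg e.symm (LinearMap.congr_fun hψ v)).trans (e.symm_apply_apply _)

variable [HasExt.{u} (CohB1.ProjSpace n k).Modules]

theorem evVanish_zero_iff (hP : Meets P) {F : (CohB1.ProjSpace n k).Modules} (hF : Coh.IsCoh F) :
    EvVanish F 0 ↔ LocVanish P F 0 := by
  haveI := proper n k
  haveI := Groth.L21.RR.isNoetherian_of_proper (X := CohB1.ProjSpace n k) k
  haveI := isQCoh_ω (n := n) (k := k)
  trans IsZero (homMod F (ω' n k))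
  · constructor
    · rintro ⟨m₀, h⟩
      obtain ⟨m₁, h₁⟩ := exists_large_vanish (isCoh_homMod_ω hF)
      refine isZero_of_isZero_tw (isZero_of_gg (h₁ (max m₀ m₁) (le_max_right _ _)).2 ?_)
      obtain ⟨e, he⟩ := exists_psi F (max m₀ m₁)
      haveI := h _ (le_max_left m₀ m₁)
      haveI : Subsingleton (tw' F (-max m₀ m₁) ⟶ ω' n k) := (Ext.mk₀_bijective _ _).1.subsingleton
      haveI : Subsingleton (Coh.structureModule (CohB1.ProjSpace n k) ⟶ tw' (homMod F (ω' n k)) (max m₀ m₁)) :=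
        he.2.subsingleton
      refine subsingleton_of_forall_eq 0 fun x => ?_
      obtain ⟨φ, hφ⟩ := Groth.L21.RR.exists_hom_of_hh0 x
      refine (Groth.L21.RR.e0 _).injective ?_
      rw [← hφ, Subsingleton.elim φ 0, map_zero]
      rfl
    · intro hz
      refine ⟨0, fun m _ => ?_⟩
      obtain ⟨e, he⟩ := exists_psi F m
      have hz' := (tensorRightF (O' n k m)).map_isZero hz
      haveI : Subsingleton (Coh.structureModule (CohB1.ProjSpace n k) ⟶ tw' (homMod F (ω' n k)) m) :=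
        ⟨fun a b => hz'.eq_of_tgt a b⟩
      haveI : Subsingleton (tw' F (-m) ⟶ ω' n k) := ⟨fun a b => he.1 (hz'.eq_of_tgt _ _)⟩
      exact (Ext.mk₀_bijective _ _).2.subsingleton
  · rw [isZero_iff_on hP (isCoh_homMod_ω hF)]
    refine forall₂_congr fun x _ => ?_
    obtain ⟨e⟩ := nonempty_stalk_ω (n := n) (k := k) x
    constructor
    · intro h
      refine subsingleton_of_forall_eq 0 fun z => ?_
      obtain ⟨φ, rfl⟩ := (Ext.mk₀_bijective _ _).2 z
      obtain ⟨θ, hθ⟩ := (bijective_stalkHom F (ω' n k) hF x).2 (e.symm.toLinearMap.comp φ.hom)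
      rw [Subsingleton.elim θ 0, map_zero] at hθ
      rw [show φ = 0 from ModuleCat.hom_ext (LinearMap.ext fun v => e.symm.injective
        ((LinearMap.congr_fun hθ v).symm.trans (map_zero _).symm)), Ext.mk₀_zero]
    · intro h
      refine subsingleton_of_forall_eq 0 fun θ => (bijective_stalkHom F (ω' n k) hF x).1 ?_
      rw [map_zero]
      refine LinearMap.ext fun v => e.injective ?_
      have h0 : ModuleCat.ofHom (e.toLinearMap.comp (stalkHom F (ω' n k) x θ)) = 0 :=
        (Ext.mk₀_bijective _ _).1 (Subsingleton.elim _ _)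
      exact (LinearMap.congr_fun (congrArg ModuleCat.Hom.hom h0) v).trans (map_zero e).symm

variable {S : ShortComplex (CohB1.ProjSpace n k).Modules}

theorem subsingleton_ext_free {R : Type u} [CommRing R] (M : ModuleCat.{u} R) [Module.Free R M] (N : ModuleCat.{u} R)
    (j : ℕ) : Subsingleton (Ext M N (j + 1)) := by
  haveI : Projective M := by
    haveI : Module.Projective R M := Module.Projective.of_free
    exact (IsProjective.iff_projective M).1 inferInstance
  exact subsingleton_of_forall_eq 0 Ext.eq_zero_of_projective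

/-- A resolution step. -/
structure Step (S : ShortComplex (CohB1.ProjSpace n k).Modules) : Prop where
  shortExact : S.ShortExact
  coh₁ : Coh.IsCoh S.X₁
  coh₂ : Coh.IsCoh S.X₂
  ext₂ : ∀ j : ℕ, ∀ m : ℤ, 0 ≤ m → Subsingleton (Ext (tw' S.X₂ (-m)) (ω' n k) (j + 1))
  free₂ : ∀ x : CohB1.ProjSpace n k, Module.Free ((CohB1.ProjSpace n k).presheaf.stalk x) (S.X₂.presheaf.stalk x)

theorem evVanish_one_iff (hP : Meets P) (hS : Step S) : EvVanish S.X₃ 1 ↔ LocVanish P S.X₃ 1 := by
  trans Epi (pre' (ω' n k) S.f)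
  · rw [← exists_large_surjective_iff (isCoh_homMod_ω hS.coh₂) (isCoh_homMod_ω hS.coh₁)]
    constructor
    · rintro ⟨m₀, h⟩
      refine ⟨m₀, fun m hm g => ?_⟩
      obtain ⟨e, he⟩ := exists_psi S.X₁ m
      obtain ⟨e', he'⟩ := exists_psi S.X₂ m
      have hT := Groth.L22.Reg.shortExact_tw hS.shortExact (-m)
      obtain ⟨α, rfl⟩ := he.2 g
      obtain ⟨y, hy⟩ := Ext.contravariant_sequence_exact₁ hT (ω' n k) (Ext.mk₀ α) (n₁ := 1) rfl
        (@Subsingleton.elim _ (h m hm) _ _)
      obtain ⟨β, rfl⟩ := (Ext.mk₀_bijective _ _).2 y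
      rw [Ext.mk₀_comp_mk₀] at hy
      refine ⟨e.hom ≫ (tensorRightF (O' n k m)).map (curryHom β), ?_⟩
      rw [Category.assoc, ← Functor.map_comp, ← curryHom_natural, ← (Ext.mk₀_bijective _ _).1 hy]
      rfl
    · rintro ⟨m₀, h⟩
      refine ⟨max m₀ 0, fun m hm => subsingleton_of_forall_eq 0 fun x => ?_⟩
      have hT := Groth.L22.Reg.shortExact_tw hS.shortExact (-m)
      obtain ⟨y, rfl⟩ := Ext.contravariant_sequence_exact₃ hT (ω' n k) x
        (@Subsingleton.elim _ (hS.ext₂ 0 m (le_trans (le_max_right _ _) hm)) _ _) (show 1 + 0 = 1 from rfl)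
      obtain ⟨α, rfl⟩ := (Ext.mk₀_bijective _ _).2 y
      obtain ⟨a⟩ := Groth.L22.Reg.nonempty_O_add (n := n) (R := k) (show -m + m = 0 by omega)
      obtain ⟨b⟩ := Groth.L22.Reg.nonempty_O_zero n k
      haveI := isEquivalence_tw (n := n) (k := k) m
      obtain ⟨g, hg⟩ := h m ((le_max_left _ _).trans hm)
        ((a ≪≫ b).inv ≫ (tensorRightF (O' n k m)).map (curryHom α))
      obtain ⟨γ, hγ⟩ := (tensorRightF (O' n k m)).map_surjective ((a ≪≫ b).hom ≫ g)
      obtain ⟨β, rfl⟩ := (curryEquiv S.X₂ (O' n k (-m)) (ω' n k)).surjective γ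
      have hαβ : tensorMap S.f (𝟙 _) ≫ β = α := by
        refine (curryEquiv S.X₁ (O' n k (-m)) (ω' n k)).injective ?_
        show curryHom _ = curryHom α
        rw [curryHom_natural]
        refine (tensorRightF (O' n k m)).map_injective ?_
        rw [Functor.map_comp, show (tensorRightF (O' n k m)).map (curryHom β) = _ from hγ, Category.assoc, hg,
          Iso.hom_inv_id_assoc]
      rw [← hαβ]
      show hT.extClass.comp (Ext.mk₀ (((S.map (tensorRightF (O' n k (-m))))).f ≫ β)) rfl = 0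
      rw [← Ext.mk₀_comp_mk₀, ← Ext.comp_assoc_of_second_deg_zero, hT.extClass_comp, Ext.zero_comp]
  · rw [epi_pre_iff hP hS.coh₁ hS.coh₂]
    refine forall₂_congr fun x _ => ?_
    have hT := hS.shortExact.map_of_exact (Groth.L00.Stk.F (CohB1.ProjSpace n k) x)
    haveI : Module.Free ((CohB1.ProjSpace n k).presheaf.stalk x)
      ((S.map (Groth.L00.Stk.F (CohB1.ProjSpace n k) x)).X₂) := hS.free₂ x
    constructor
    · intro h
      refine subsingleton_of_forall_eq 0 fun z => ?_
      obtain ⟨y, rfl⟩ := Ext.contravariant_sequence_exact₃ hT _ z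
        (@Subsingleton.elim _ (subsingleton_ext_free _ _ 0) _ _) (show 1 + 0 = 1 from rfl)
      obtain ⟨φ, rfl⟩ := (Ext.mk₀_bijective _ _).2 y
      obtain ⟨ψ, hψ⟩ := h φ.hom
      have e : φ = (S.map (Groth.L00.Stk.F (CohB1.ProjSpace n k) x)).f ≫ ModuleCat.ofHom ψ :=
        ModuleCat.hom_ext hψ.symm
      rw [e, ← Ext.mk₀_comp_mk₀, ← Ext.comp_assoc_of_second_deg_zero, hT.extClass_comp, Ext.zero_comp]
    · intro h φ
      obtain ⟨y, hy⟩ := Ext.contravariant_sequence_exact₁ hT _
        (Ext.mk₀ (ModuleCat.ofHom (X := S.X₁.presheaf.stalk x) φ)) (n₁ := 1) rfl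
        (@Subsingleton.elim _ h _ _)
      obtain ⟨ψ, rfl⟩ := (Ext.mk₀_bijective _ _).2 y
      rw [Ext.mk₀_comp_mk₀] at hy
      exact ⟨ψ.hom, congrArg ModuleCat.Hom.hom ((Ext.mk₀_bijective _ _).1 hy)⟩

theorem subsingleton_ext_shift {C : Type*} [Category C] [Abelian C] [HasExt.{u} C] {S : ShortComplex C}
    (hS : S.ShortExact) (Y : C) {j : ℕ} (h₀ : Subsingleton (Ext S.X₂ Y j)) (h₁ : Subsingleton (Ext S.X₂ Y (j + 1))) :
    Subsingleton (Ext S.X₁ Y j) ↔ Subsingleton (Ext S.X₃ Y (j + 1)) := by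
  constructor
  · intro h
    refine subsingleton_of_forall_eq 0 fun z => ?_
    obtain ⟨y, rfl⟩ := Ext.contravariant_sequence_exact₃ hS Y z (Subsingleton.elim _ _) (show 1 + j = j + 1 by omega)
    rw [Subsingleton.elim y 0, Ext.comp_zero]
  · intro h
    refine subsingleton_of_forall_eq 0 fun y => ?_
    obtain ⟨z, rfl⟩ := Ext.contravariant_sequence_exact₁ hS Y y (n₁ := j + 1) (by omega) (Subsingleton.elim _ _)
    rw [Subsingleton.elim z 0, Ext.comp_zero]

theorem exists_step {F : (CohB1.ProjSpace n k).Modules} (hF : Coh.IsCoh F) :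
    ∃ S : ShortComplex (CohB1.ProjSpace n k).Modules, S.X₃ = F ∧ Step S := by
  haveI := proper n k
  haveI := Groth.L21.RR.isNoetherian_of_proper (X := CohB1.ProjSpace n k) k
  obtain ⟨q, r, p, hq, hp⟩ := exists_epi_twists hF (n + 1)
  haveI := hF.1
  have hE := isCoh_sum (n := n) (k := k) r (-(q : ℤ))
  refine ⟨ShortComplex.mk (kernel.ι p) p (kernel.condition p), rfl,
    { shortExact := { exact := ShortComplex.exact_kernel p }
      coh₁ := (CohKernel.isCoh_kernel_cokernel hE hF p).1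
      coh₂ := hE
      ext₂ := fun j m hm => ?_
      free₂ := fun x => free_stalk_sum r _ x }⟩
  obtain ⟨c⟩ := Groth.L22.Reg.nonempty_tensor_sigma (n := n) (fun _ : Fin r => O' n k (-(q : ℤ))) (O' n k (-m))
  obtain ⟨q', hq'⟩ : ∃ q' : ℕ, (q : ℤ) + m = q' := ⟨((q : ℤ) + m).toNat, by omega⟩
  obtain ⟨a⟩ := Groth.L22.Reg.nonempty_O_add (n := n) (R := k) (show -(q : ℤ) + -m = -(q' : ℤ) by omega)
  let e : tw' (∐ fun _ : Fin r => O' n k (-(q : ℤ))) (-m) ≅ ∐ fun _ : Fin r => O' n k (-(q' : ℤ)) :=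
    c ≪≫ Sigma.mapIso fun _ => a
  haveI := subsingleton_ext_sum (n := n) (k := k) r q' (by omega) j
  refine subsingleton_of_forall_eq 0 fun x => ?_
  have h := congrArg (fun w => (Ext.mk₀ e.hom).comp w (zero_add (j + 1)))
    (Subsingleton.elim ((Ext.mk₀ e.inv).comp x (zero_add (j + 1))) 0)
  simpa using h

theorem evVanish_iff (hP : Meets P) :
    ∀ (j : ℕ) (F : (CohB1.ProjSpace n k).Modules), Coh.IsCoh F → (EvVanish F j ↔ LocVanish P F j)
  | 0, F, hF => evVanish_zero_iff hP hF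
  | 1, F, hF => by
    obtain ⟨S, rfl, hS⟩ := exists_step hF
    exact evVanish_one_iff hP hS
  | j + 2, F, hF => by
    obtain ⟨S, rfl, hS⟩ := exists_step hF
    have key := evVanish_iff hP (j + 1) S.X₁ hS.coh₁
    have hloc : LocVanish P S.X₁ (j + 1) ↔ LocVanish P S.X₃ (j + 2) := forall₂_congr fun x _ => by
      have hT := hS.shortExact.map_of_exact (Groth.L00.Stk.F (CohB1.ProjSpace n k) x)
      haveI : Module.Free ((CohB1.ProjSpace n k).presheaf.stalk x)
        ((S.map (Groth.L00.Stk.F (CohB1.ProjSpace n k) x)).X₂) := hS.free₂ x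
      exact subsingleton_ext_shift hT _ (subsingleton_ext_free _ _ _) (subsingleton_ext_free _ _ _)
    have hev : EvVanish S.X₁ (j + 1) ↔ EvVanish S.X₃ (j + 2) := by
      constructor <;> rintro ⟨m₀, h⟩ <;> refine ⟨max m₀ 0, fun m hm => ?_⟩
      · exact (subsingleton_ext_shift (Groth.L22.Reg.shortExact_tw hS.shortExact (-m)) _
          (hS.ext₂ _ m ((le_max_right _ _).trans hm)) (hS.ext₂ _ m ((le_max_right _ _).trans hm))).1
          (h m ((le_max_left _ _).trans hm))
      · exact (subsingleton_ext_shift (Groth.L22.Reg.shortExact_tw hS.shortExact (-m)) _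
          (hS.ext₂ _ m ((le_max_right _ _).trans hm)) (hS.ext₂ _ m ((le_max_right _ _).trans hm))).2
          (h m ((le_max_left _ _).trans hm))
    exact hev.symm.trans (key.trans hloc)

omit [HasExt.{u} (CohB1.ProjSpace n k).Modules] in
/-- Enriques–Severi: `H^i(F(-m)) = 0` for `m ≫ 0` iff `Ext^{n-i}(F_x, O_x) = 0` everywhere. -/
theorem cohomology_vanish_iff (hP : Meets P) {F : (CohB1.ProjSpace n k).Modules} (hF : Coh.IsCoh F) {i j : ℕ} (hij : i + j = n) :
    (∃ m₀ : ℤ, ∀ m : ℤ, m₀ ≤ m → Subsingleton (Coh.HH (CohB1.ProjSpace n k) (tw' F (-m)) i)) ↔ LocVanish P F j := by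
  haveI := Groth.L00.Tensor.grothendieckAbelian_modules (CohB1.ProjSpace n k)
  haveI : HasExt.{u} (CohB1.ProjSpace n k).Modules := inferInstance
  rw [← evVanish_iff hP j F hF]
  refine exists_congr fun m₀ => forall₂_congr fun m hm => ?_
  have h := subsingleton_ext_iff (isCoh_tw hF (-m)) (show j ≤ n by omega)
  rw [show n - j = i by omega] at h
  exact h.symm

end Groth.L22.PDual
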