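import Groth.Agent.L15.Ref.Stalk
import Groth.Agent.L16.HomSh.Adjunction

/-!
The sheaf of homomorphisms as a functor of its first argument, and its stalks.
-/

set_option autoImplicit false
set_option backward.isDefEq.respectTransparency false
set_option linter.style.haveILetI false
universe u

open CategoryTheory CategoryTheory.Limits AlgebraicGeometry TopologicalSpace Opposite

noncomputable section

namespace Groth.L22.PDual

open Groth.L16.HomSh
open Groth.L00.Tensor (tensorMap)
open Groth.L18.Frame (rs)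

variable {X : Scheme.{u}} {M M' N : X.Modules}

/-- Precomposition on sections. -/
def preSec (f : M ⟶ M') (U : X.Opens) : Sec M' N U →+ Sec M N U where
  toFun φ := ⟨fun W => (φ.1 W).comp (f.app W.1).hom,
    fun W W' h h' x => by
      show rs N h' (ev φ h (f.app W x)) = ev φ (h'.trans h) (f.app W' (rs M h' x))
      rw [ev_rs, hom_app_rs],
    fun W h a x => by
      show ev φ h (f.app W (a • x)) = a • ev φ h (f.app W x)
      rw [Scheme.Modules.Hom.app_smul, ev_smul]⟩
  map_zero' := rfl
  map_add' _ _ := rfl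

variable (N)

/-- Precomposition. -/
def pre' (f : M ⟶ M') : homMod M' N ⟶ homMod M N :=
  ⟨PresheafOfModules.homMk
    { app := fun U => AddCommGrpCat.ofHom (preSec (N := N) f U.unop)
      naturality := fun _ _ _ => rfl }
    (fun _ _ _ => rfl)⟩

variable {N}

theorem ev_pre' (f : M ⟶ M') (U : X.Opens) (s : Γ(homMod M' N, U)) {W : X.Opens} (h : W ≤ U) (x : Γ(M, W)) :
    ev (secEquiv U ((pre' N f).app U s)) h x = ev (secEquiv U s) h (f.app W x) := rfl

theorem pre'_id : pre' N (𝟙 M) = 𝟙 (homMod M N) := hom_ext_ev fun _ _ _ _ _ => rfl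

theorem pre'_comp {M'' : X.Modules} (f : M ⟶ M') (g : M' ⟶ M'') : pre' N (f ≫ g) = pre' N g ≫ pre' N f :=
  hom_ext_ev fun _ _ _ _ _ => rfl

theorem pre'_zero : pre' N (0 : M ⟶ M') = 0 := hom_ext_ev fun U s W h x => map_zero (ev (secEquiv U s) h)

theorem pre'_add (f g : M ⟶ M') : pre' N (f + g) = pre' N f + pre' N g :=
  hom_ext_ev fun U s W h x => map_add (ev (secEquiv U s) h) (f.app W x) (g.app W x)

theorem curryHom_natural (f : M ⟶ M') {P : X.Modules} (α : CohB1.tensorMod M' P ⟶ N) :
    curryHom (tensorMap f (𝟙 P) ≫ α) = curryHom α ≫ pre' N f := hom_ext_ev fun U p W h x => by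
  show α.app W ((tensorMap f (𝟙 P)).app W (Groth.L18.GenLoc.tens M P W x (rs P h p))) =
    α.app W (Groth.L18.GenLoc.tens M' P W (f.app W x) (rs P h p))
  rw [tensorMap_tens]
  rfl

variable (M N)

/-- The stalk of the sheaf of homomorphisms as linear maps of stalks. -/
def stalkHom (x : X) :
    (homMod M N).presheaf.stalk x →ₗ[X.presheaf.stalk x] RefHull.StalkHom M N x :=
  (RefHull.evalStalk M N x).comp (RefHull.stalkMapₗ (inv (Groth.L15.Ref.toHomMod M N)) x)

theorem bijective_stalkHom [IsLocallyNoetherian X] (hM : Coh.IsCoh M) [Coh.IsQCoh N] (x : X) :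
    Function.Bijective (stalkHom M N x) :=
  (Groth.L15.Ref.evalStalk_bijective M N hM x).comp
    ((Groth.L21.Mod.isIso_iff_stalk_bijective (inv (Groth.L15.Ref.toHomMod M N))).1 inferInstance x)

theorem stalkHom_germ (x : X) {U : X.Opens} (hx : x ∈ U) (s : Γ(homMod M N, U)) {W : X.Opens} (h : W ≤ U)
    (hxW : x ∈ W) (m : Γ(M, W)) :
    stalkHom M N x ((homMod M N).presheaf.germ U x hx s) (M.presheaf.germ W x hxW m) =
      N.presheaf.germ W x hxW (ev (secEquiv U s) h m) := by
  obtain ⟨g, rfl⟩ : ∃ g, (Groth.L15.Ref.toHomMod M N).app U g = s :=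
    ((ConcreteCategory.isIso_iff_bijective _).1
      (Scheme.Modules.Hom.isIso_iff_isIso_app.1 (inferInstance : IsIso (Groth.L15.Ref.toHomMod M N)) U)).2 s
  rw [stalkHom, LinearMap.comp_apply, RefHull.stalkMapₗ_germ,
    show (inv (Groth.L15.Ref.toHomMod M N)).app U ((Groth.L15.Ref.toHomMod M N).app U g) = g from
      congr($(congrArg (fun f => Scheme.Modules.Hom.app f U) (IsIso.hom_inv_id (Groth.L15.Ref.toHomMod M N))) g),
    RefHull.evalStalk_germ, Groth.L15.Ref.toHomMod_app, LinearEquiv.apply_symm_apply]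
  exact (Groth.L15.Ref.germ_secOf g h m x hxW).symm

variable {M N}

theorem stalkHom_pre' (f : M ⟶ M') (x : X) (θ : (homMod M' N).presheaf.stalk x) :
    stalkHom M N x (RefHull.stalkMapₗ (pre' N f) x θ) = (stalkHom M' N x θ).comp (RefHull.stalkMapₗ f x) := by
  obtain ⟨U, hx, s, rfl⟩ := TopCat.Presheaf.exists_germ_eq (homMod M' N).presheaf θ
  refine LinearMap.ext fun v => ?_
  obtain ⟨W, hW, hxW, m, rfl⟩ := Groth.L15.Ref.exists_rep hx v
  rw [LinearMap.comp_apply, RefHull.stalkMapₗ_germ, RefHull.stalkMapₗ_germ, stalkHom_germ M N x hx _ hW,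
    stalkHom_germ M' N x hx _ hW, ev_pre']

end Groth.L22.PDual
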